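import Cfsg.Agent.CoreKill63.Main
import Cfsg.Agent.Classification.Four
import Cfsg.Agent.CharPLocal.Two

/-!
# The closure of the core functor over a connected Sylow 2-subgroup

All centralisers of involutions are 2-constrained and the commuting graph of four-groups of a Sylow
2-subgroup `S` of 2-rank at least three is connected.
-/

set_option autoImplicit false
set_option linter.style.haveILetI false
set_option linter.unusedSectionVars false

namespace CfsgLib.CoreKillConn

open Cfsg Subgroup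
open CfsgLib.SolvSig CfsgLib.Transitivity CfsgLib.CoreKill63

variable {G : Type*} [Group G] [Finite G]

/-- The standing data. -/
structure Setting (S : Sylow 2 G) (E : Subgroup G) : Prop where
  constr : Constr G
  elab_E : IsElementaryAbelian 2 E
  eight : 8 ≤ Nat.card E
  le_S : E ≤ (S : Subgroup G)
  conn : IsFourConnected (S : Subgroup G)

variable {S : Sylow 2 G} {E : Subgroup G}

theorem Setting.exists_four (h : Setting S E) :
    ∃ U : Subgroup G, U ≤ E ∧ IsKleinFour U := by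
  haveI : Fact (Nat.Prime 2) := ⟨Nat.prime_two⟩
  have h2 : ¬ PRankLE 2 1 ↥E := fun hr => by
    have := hr ⊤ ⟨⟨fun a b => Subtype.ext (Subtype.ext (congrArg Subtype.val
      (h.elab_E.1.is_comm.comm a.1 b.1) :))⟩⟩ fun a _ => Subtype.ext (h.elab_E.2 _ a.2)
    rw [Subgroup.card_top] at this
    have := h.eight
    omega
  obtain ⟨U, hU⟩ := CfsgLib.Classification.exists_isKleinFour_of_not_pRankLE h2
  exact ⟨U.map E.subtype, map_subtype_le U,
    CfsgLib.Classification.isKleinFour_map _ (subtype_injective _) hU⟩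

omit [Finite G] in
theorem elab_of_four {U : Subgroup G} (hU : IsKleinFour U) : IsElementaryAbelian 2 U :=
  ⟨⟨⟨fun a b => Subtype.ext (CfsgLib.Classification.comm_of_isKleinFour hU a.2 b.2)⟩⟩,
    fun a ha => by rw [sq]; exact CfsgLib.Classification.sq_eq_one_of_isKleinFour hU ha⟩

theorem four_le_card_of_four {U : Subgroup G} (hU : IsKleinFour U) : 2 ^ 2 ≤ Nat.card U := by
  rw [hU.card_four]; norm_num

omit [Finite G] in
theorem four_subgroupOf {K H : Subgroup G} (hK : K ≤ H) (hKf : IsKleinFour K) :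
    IsKleinFour (K.subgroupOf H) :=
  ⟨(Nat.card_congr (subgroupOfEquivOfLe hK).toEquiv).trans hKf.card_four,
    (Monoid.exponent_eq_of_mulEquiv (subgroupOfEquivOfLe hK)).trans hKf.exponent_two⟩

/-- Every four-group of `S` lies in an elementary subgroup of order eight with closure `cl E`. -/
theorem Setting.four_cl (h : Setting S E) {U : Subgroup G} (hUS : U ≤ (S : Subgroup G))
    (hU : IsKleinFour U) : cl U = cl E ∧
      ∃ A : Subgroup G, IsElementaryAbelian 2 A ∧ 8 ≤ Nat.card A ∧ A ≤ (S : Subgroup G) ∧ U ≤ A := by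
  haveI : Fact (Nat.Prime 2) := ⟨Nat.prime_two⟩
  obtain ⟨U₀, hU₀E, hU₀⟩ := h.exists_four
  have hchain := h.conn _ _ (four_subgroupOf (hU₀E.trans h.le_S) hU₀) (four_subgroupOf hUS hU)
  suffices key : ∀ V : Subgroup ↥(S : Subgroup G), Relation.ReflTransGen
      (fun A B : Subgroup ↥(S : Subgroup G) => IsKleinFour A ∧ IsKleinFour B ∧
        ∀ a ∈ A, ∀ b ∈ B, a * b = b * a) (U₀.subgroupOf (S : Subgroup G)) V →
      cl (V.map (S : Subgroup G).subtype) = cl E ∧
      ∃ A : Subgroup G, IsElementaryAbelian 2 A ∧ 8 ≤ Nat.card A ∧ A ≤ (S : Subgroup G) ∧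
        V.map (S : Subgroup G).subtype ≤ A by
    have := key _ hchain
    rwa [map_subgroupOf_eq_of_le hUS] at this
  intro V hV
  induction hV with
  | refl =>
    rw [map_subgroupOf_eq_of_le (hU₀E.trans h.le_S)]
    exact ⟨(cl_eq_of_le h.constr h.elab_E h.eight (four_le_card_of_four hU₀) hU₀E).symm,
      E, h.elab_E, h.eight, h.le_S, hU₀E⟩
  | @tail B C _ hstep ih =>
    obtain ⟨hB, A, hA, h8, hAS, hBA⟩ := ih
    set B' := B.map (S : Subgroup G).subtype with hB'
    set C' := C.map (S : Subgroup G).subtype with hC'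
    have hBf : IsKleinFour B' :=
      CfsgLib.Classification.isKleinFour_map _ (subtype_injective _) hstep.1
    have hCf : IsKleinFour C' :=
      CfsgLib.Classification.isKleinFour_map _ (subtype_injective _) hstep.2.1
    have hc : C' ≤ centralizer (B' : Set G) := by
      rintro _ ⟨c, hc, rfl⟩
      rw [mem_centralizer_iff]
      rintro _ ⟨b, hb, rfl⟩
      rw [← map_mul, ← map_mul, hstep.2.2 b hb c hc]
    by_cases h8' : 8 ≤ Nat.card ↥(B' ⊔ C')
    · have hBC := CfsgLib.SolvSig.isElementaryAbelian_sup (elab_of_four hBf) (elab_of_four hCf) hc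
      refine ⟨?_, B' ⊔ C', hBC, h8', sup_le (map_subtype_le B) (map_subtype_le C), le_sup_right⟩
      rw [← hB, ← cl_eq_of_le h.constr hBC h8' (four_le_card_of_four hBf) le_sup_left,
        cl_eq_of_le h.constr hBC h8' (four_le_card_of_four hCf) le_sup_right]
    · have hBC := CfsgLib.SolvSig.isElementaryAbelian_sup (elab_of_four hBf) (elab_of_four hCf) hc
      have h4 : Nat.card ↥(B' ⊔ C') ≤ 4 := by
        by_contra hlt
        exact h8' (pow_succ_le_card hBC (k := 2) (by omega))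
      have e1 : B' = B' ⊔ C' := eq_of_le_of_card_ge le_sup_left (by rw [hBf.card_four]; exact h4)
      have e2 : C' = B' ⊔ C' := eq_of_le_of_card_ge le_sup_right (by rw [hCf.card_four]; exact h4)
      rw [e2, ← e1]
      exact ⟨hB, A, hA, h8, hAS, hBA⟩

/-- All closures inside `S` agree. -/
theorem Setting.cl_eq_of_le_sylow (h : Setting S E) {F : Subgroup G} (hF : IsElementaryAbelian 2 F)
    (h4 : 2 ^ 2 ≤ Nat.card F) (hFS : F ≤ (S : Subgroup G)) :
    cl F = cl E ∧ ∃ A : Subgroup G, IsElementaryAbelian 2 A ∧ 8 ≤ Nat.card A ∧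
      A ≤ (S : Subgroup G) ∧ F ≤ A := by
  haveI : Fact (Nat.Prime 2) := ⟨Nat.prime_two⟩
  by_cases h8 : 8 ≤ Nat.card F
  · refine ⟨?_, F, hF, h8, hFS, le_rfl⟩
    have h2 : ¬ PRankLE 2 1 ↥F := fun hr => by
      have := hr ⊤ ⟨⟨fun a b => Subtype.ext (Subtype.ext (congrArg Subtype.val
        (hF.1.is_comm.comm a.1 b.1) :))⟩⟩ fun a _ => Subtype.ext (hF.2 _ a.2)
      rw [Subgroup.card_top] at this
      omega
    obtain ⟨U, hU⟩ := CfsgLib.Classification.exists_isKleinFour_of_not_pRankLE h2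
    have hUf : IsKleinFour (U.map F.subtype) :=
      CfsgLib.Classification.isKleinFour_map _ (subtype_injective _) hU
    rw [cl_eq_of_le h.constr hF h8 (four_le_card_of_four hUf) (map_subtype_le U)]
    exact (h.four_cl ((map_subtype_le U).trans hFS) hUf).1
  · have hF4 : Nat.card F = 4 := by
      by_contra hne
      exact h8 (pow_succ_le_card hF (k := 2) (by omega))
    refine h.four_cl hFS ⟨hF4, ?_⟩
    haveI : Nontrivial F := Finite.one_lt_card_iff_nontrivial.1 (by omega)
    rw [Monoid.exponent_eq_prime_iff Nat.prime_two]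
    exact fun g hg => orderOf_eq_prime (Subtype.ext (hF.2 _ g.2)) hg

theorem Setting.sylow_le_normalizer (h : Setting S E) :
    (S : Subgroup G) ≤ normalizer (cl E : Set G) := by
  intro s hs
  rw [mem_normalizer_iff_map_conj_eq]
  refine (cl_map E s).trans ?_
  refine (h.cl_eq_of_le_sylow (isElementaryAbelian_map h.elab_E _) ?_ ?_).1
  · rw [card_map_of_injective (MulAut.conj s).injective]; exact le_trans (by norm_num) h.eight
  · rintro _ ⟨x, hx, rfl⟩
    exact mul_mem (mul_mem hs (h.le_S hx)) (inv_mem hs)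

theorem Setting.cl_odd (h : Setting S E) : Odd (Nat.card (cl E)) := by
  haveI : Fact (Nat.Prime 2) := ⟨Nat.prime_two⟩
  refine Nat.not_even_iff_odd.1 fun he => ?_
  exact (isSolvable_signalizerClosure h.elab_E h.eight
    (restrict_isSolvableSignalizerFunctor (fun a _ => th_props a) (fun a g _ => th_conj a g)
      (fun a b ha hb hab => th_bal h.constr ha.1 hb.1 hab) h.elab_E
      (not_pRankLE_of_card h.elab_E h.eight))).2 (even_iff_two_dvd.1 he)

/-- A 2-subgroup of `N(W)` is conjugate in `N(W)` into `S`. -/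
theorem Setting.exists_conj_le (h : Setting S E) {F : Subgroup G} (hF : IsPGroup 2 F)
    (hFM : F ≤ normalizer (cl E : Set G)) :
    ∃ m ∈ normalizer (cl E : Set G), F.map (MulAut.conj m).toMonoidHom ≤ (S : Subgroup G) := by
  obtain ⟨k, hk, hkF⟩ :=
    CfsgLib.ZCGroup.exists_conj_mem_sylow (S.subtype h.sylow_le_normalizer) hF hFM
  refine ⟨k, hk, ?_⟩
  rintro _ ⟨x, hx, rfl⟩
  obtain ⟨y, hy, e⟩ := hkF x hx
  have hy' : (y : G) ∈ (S : Subgroup G) := hy
  have e' : (y : G) = k * x * k⁻¹ := e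
  show k * x * k⁻¹ ∈ (S : Subgroup G)
  rw [← e']
  exact hy'

/-- All closures inside `N(W)` agree. -/
theorem Setting.cl_eq (h : Setting S E) {F : Subgroup G} (hF : IsElementaryAbelian 2 F)
    (h4 : 2 ^ 2 ≤ Nat.card F) (hFM : F ≤ normalizer (cl E : Set G)) : cl F = cl E := by
  haveI : Fact (Nat.Prime 2) := ⟨Nat.prime_two⟩
  obtain ⟨m, hm, hle⟩ := h.exists_conj_le (isPGroup_of_elab hF) hFM
  have h1 := (h.cl_eq_of_le_sylow (isElementaryAbelian_map hF _)
    (by rw [card_map_of_injective (MulAut.conj m).injective]; exact h4) hle).1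
  exact map_injective (MulAut.conj m).injective
    ((cl_map F m).trans (h1.trans (mem_normalizer_iff_map_conj_eq.1 hm).symm))

/-- `N(W)` contains everything carrying a four-group of `N(W)` into `N(W)`. -/
theorem Setting.key (h : Setting S E) {F : Subgroup G} (hF : IsElementaryAbelian 2 F)
    (h4 : 2 ^ 2 ≤ Nat.card F) (hFM : F ≤ normalizer (cl E : Set G)) {g : G}
    (hg : F.map (MulAut.conj g).toMonoidHom ≤ normalizer (cl E : Set G)) :
    g ∈ normalizer (cl E : Set G) := by
  rw [mem_normalizer_iff_map_conj_eq]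
  have h1 := h.cl_eq (isElementaryAbelian_map hF _)
    (by rw [card_map_of_injective (MulAut.conj g).injective]; exact h4) hg
  have h2 := (cl_map F g).trans h1
  rw [h.cl_eq hF h4 hFM] at h2
  exact h2

/-- An involution of `S` lies in an elementary abelian subgroup of order eight of `S`. -/
theorem Setting.exists_A (h : Setting S E) {a : G} (ha : a ∈ (S : Subgroup G)) (ho : orderOf a = 2) :
    ∃ A : Subgroup G, IsElementaryAbelian 2 A ∧ 8 ≤ Nat.card A ∧ A ≤ (S : Subgroup G) ∧ a ∈ A ∧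
      cl A = cl E := by
  haveI : Fact (Nat.Prime 2) := ⟨Nat.prime_two⟩
  obtain ⟨z, hzS, hz, hzc⟩ := CfsgLib.CharPLocal.exists_involution_center_of_ne_bot S.2
    (fun hbot => by rw [hbot, mem_bot] at ha; rw [ha] at ho; simp at ho)
  have h2 : ∀ {x : G}, orderOf x = 2 → x * x = 1 := fun {x} hx => by
    rw [← sq, ← hx, pow_orderOf_eq_one]
  have ha1 : a ≠ 1 := fun e => by simp [e] at ho
  obtain ⟨U, hU, hUS, haU⟩ : ∃ U : Subgroup G, IsKleinFour U ∧ U ≤ (S : Subgroup G) ∧ a ∈ U := by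
    by_cases haz : a = z
    · obtain ⟨U₀, hU₀E, hU₀⟩ := h.exists_four
      obtain ⟨u, hu, hu1, hua⟩ := CfsgLib.Classification.exists_mem_ne_of_isKleinFour hU₀ a
      have huS := h.le_S (hU₀E hu)
      have hc : a * u = u * a := by rw [haz]; exact (hzc u huS).symm
      refine ⟨_, CfsgLib.Classification.isKleinFour_fourSpan (h2 ho)
        (CfsgLib.Classification.sq_eq_one_of_isKleinFour hU₀ hu) hc ha1 hu1 hua.symm, ?_, Or.inr (Or.inl rfl)⟩
      intro x hx
      rcases CfsgLib.Classification.mem_fourSpan.1 hx with rfl | rfl | rfl | rfl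
      exacts [one_mem _, ha, huS, mul_mem ha huS]
    · refine ⟨_, CfsgLib.Classification.isKleinFour_fourSpan (h2 ho) (h2 hz) (hzc a ha) ha1
        (fun e => by simp [e] at hz) haz, ?_, Or.inr (Or.inl rfl)⟩
      intro x hx
      rcases CfsgLib.Classification.mem_fourSpan.1 hx with rfl | rfl | rfl | rfl
      exacts [one_mem _, ha, hzS, mul_mem ha hzS]
  obtain ⟨-, A, hA, h8, hAS, hUA⟩ := h.four_cl hUS hU
  exact ⟨A, hA, h8, hAS, hUA haU,
    (h.cl_eq_of_le_sylow hA (le_trans (by norm_num) h8) hAS).1⟩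

/-- An involution of `N(W)` lies in an elementary abelian subgroup of order eight of `N(W)`. -/
theorem Setting.exists_eight (h : Setting S E) {t : G} (ht : t ∈ normalizer (cl E : Set G))
    (ho : orderOf t = 2) : ∃ A : Subgroup G, IsElementaryAbelian 2 A ∧ 8 ≤ Nat.card A ∧
      A ≤ normalizer (cl E : Set G) ∧ t ∈ A ∧ th t ≤ cl E := by
  haveI : Fact (Nat.Prime 2) := ⟨Nat.prime_two⟩
  obtain ⟨m, hm, hle⟩ := h.exists_conj_le (CfsgLib.ZCGroup.isPGroup_zpowers_of_orderOf ho)
    (zpowers_le.2 ht)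
  have hmt : m * t * m⁻¹ ∈ (S : Subgroup G) := hle ⟨t, mem_zpowers t, rfl⟩
  obtain ⟨A, hA, h8, hAS, htA, hcl⟩ := h.exists_A hmt
    ((MulEquiv.orderOf_eq (MulAut.conj m) t).trans ho)
  have hA' : IsElementaryAbelian 2 (A.map (MulAut.conj m⁻¹).toMonoidHom) := isElementaryAbelian_map hA _
  have h8' : 8 ≤ Nat.card (A.map (MulAut.conj m⁻¹).toMonoidHom) := by
    rw [card_map_of_injective (MulAut.conj m⁻¹).injective]; exact h8
  have hA'M : A.map (MulAut.conj m⁻¹).toMonoidHom ≤ normalizer (cl E : Set G) := by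
    rintro _ ⟨x, hx, rfl⟩
    simpa [mul_assoc] using mul_mem (mul_mem (inv_mem hm) (h.sylow_le_normalizer (hAS hx))) hm
  have htA' : t ∈ A.map (MulAut.conj m⁻¹).toMonoidHom := ⟨_, htA, by simp [mul_assoc]⟩
  refine ⟨_, hA', h8', hA'M, htA', ?_⟩
  rw [← h.cl_eq hA' (le_trans (by norm_num) h8') hA'M]
  exact le_signalizerClosure htA' fun e => by simp [e] at ho

/-- **`N(W)` contains the centralisers of its involutions.** -/
theorem Setting.centralizer_le (h : Setting S E) {t : G} (ht : t ∈ normalizer (cl E : Set G))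
    (ho : orderOf t = 2) : centralizer ({t} : Set G) ≤ normalizer (cl E : Set G) := by
  classical
  haveI : Fact (Nat.Prime 2) := ⟨Nat.prime_two⟩
  set M := normalizer (cl E : Set G) with hM
  set C := centralizer ({t} : Set G) with hC
  obtain ⟨A, hA, h8, hAM, htA, hth⟩ := h.exists_eight ht ho
  have hAC : A ≤ C := fun a ha => mem_centralizer_singleton_iff.2
    (congrArg Subtype.val (hA.1.is_comm.comm ⟨a, ha⟩ ⟨t, htA⟩))
  obtain ⟨R, hR⟩ :=
    ((CfsgLib.Transitivity.isPGroup_of_elab hA).comap_subtype : IsPGroup 2 (A.subgroupOf C)).exists_le_sylow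
  set Rm := (R : Subgroup C).map C.subtype with hRm
  have hRp : IsPGroup 2 Rm := R.2.map _
  have hARm : A ≤ Rm := fun a ha => ⟨⟨a, hAC ha⟩, hR ha, rfl⟩
  have h4 : 2 ^ 2 ≤ Nat.card A := le_trans (by norm_num) h8
  -- `R ≤ N(W)`
  have hRM : Rm ≤ M := by
    haveI := hRp.isNilpotent
    refine subgroupOf_eq_top.1 (by_contra fun hne => ?_)
    obtain ⟨g, hg, hgM⟩ := SetLike.exists_of_lt
      (Group.normalizerCondition_of_isNilpotent (M.subgroupOf Rm) (lt_top_iff_ne_top.2 hne))
    refine hgM (mem_subgroupOf.2 (h.key hA h4 hAM (g := (g : G)) ?_))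
    rintro _ ⟨a, ha, rfl⟩
    exact ((mem_normalizer_iff.1 hg (⟨a, hARm ha⟩ : Rm)).1 (mem_subgroupOf.2 (hAM ha)) :)
  -- the Sylow subgroup of `O_{2',2}`
  obtain ⟨T, hT⟩ := CfsgLib.MaxNormalizer.exists_sylow_normal R (pPrimePCore 2 C)
  set Tc := (T : Subgroup (pPrimePCore 2 C)).map (pPrimePCore 2 C).subtype with hTc
  have hTR : Tc ≤ (R : Subgroup C) := by
    rintro _ ⟨x, hx, rfl⟩
    exact (hT x).1 hx
  set O := pPrimeCore 2 C with hO
  have hOM : ∀ x ∈ O, (x : G) ∈ M := fun x hx =>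
    le_normalizer (hth ⟨x, hx, rfl⟩)
  have htop := CfsgLib.PLocal.normalizer_sylow_pPrimePCore_sup (G := C) T
  suffices hN : ∀ n ∈ normalizer (Tc : Set C), (n : G) ∈ M by
    intro c hc
    obtain ⟨n, hn, o, ho', e⟩ := mem_sup_of_normal_right.1
      (htop.symm ▸ mem_top (⟨c, hc⟩ : C) : (⟨c, hc⟩ : C) ∈ normalizer (Tc : Set C) ⊔ O)
    rw [show c = (n : G) * o from (congrArg Subtype.val e).symm]
    exact mul_mem (hN n hn) (hOM o ho')
  by_cases hfour : ∃ x y : C, x ∈ Tc ∧ y ∈ Tc ∧ x ^ 2 = 1 ∧ y ^ 2 = 1 ∧ x ≠ 1 ∧ y ≠ 1 ∧ x ≠ y ∧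
      x * y = y * x
  · obtain ⟨x, y, hxT, hyT, hx2, hy2, hx1, hy1, hxy, hc⟩ := hfour
    intro n hn
    let F : Subgroup C := zpowers x ⊔ zpowers y
    have hF : IsElementaryAbelian 2 F := CfsgLib.SolvSig.isElementaryAbelian_sup (elab_zpowers hx2)
      (elab_zpowers hy2) (zpowers_le.2 (mem_centralizer_iff.2 fun z hz => by
        obtain ⟨k, rfl⟩ := mem_zpowers_iff.1 hz
        exact (Commute.zpow_left hc k).eq))
    have hFT : F ≤ Tc := sup_le (zpowers_le.2 hxT) (zpowers_le.2 hyT)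
    have hFm : IsElementaryAbelian 2 (F.map C.subtype) := CfsgLib.Transitivity.isElementaryAbelian_map hF _
    have hinto : ∀ z ∈ Tc, (z : G) ∈ M := fun z hz => hRM ⟨z, hTR hz, rfl⟩
    refine h.key hFm ?_ ?_ ?_
    · rw [card_map_of_injective C.subtype_injective]
      exact card_ge_four_of (mem_sup_left (mem_zpowers x)) (mem_sup_right (mem_zpowers y)) hx1 hy1 hxy hF
    · rintro _ ⟨z, hz, rfl⟩
      exact hinto z (hFT hz)
    · rintro _ ⟨_, ⟨z, hz, rfl⟩, rfl⟩
      exact hinto (n * z * n⁻¹) ((mem_normalizer_iff.1 hn z).1 (hFT hz))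
  -- one involution: the quotient is a 2-group
  · intro n _
    set π := QuotientGroup.mk' O
    have hTmap : Tc.map π = pCore 2 (C ⧸ O) := CfsgLib.PLocal.map_sylow_pPrimePCore T
    have hOcop : (Nat.card O).Coprime 2 := CfsgLib.PLocal.coprime_card_pPrimeCore 2 C
    have hinj : ∀ X : Subgroup C, IsPGroup 2 X → ∀ z ∈ X, π z = 1 → z = 1 := fun X hX z hz hz1 => by
      obtain ⟨i, hi⟩ := IsPGroup.iff_orderOf.1 hX ⟨z, hz⟩
      rw [orderOf_mk] at hi
      refine orderOf_eq_one_iff.1 (Nat.eq_one_of_dvd_coprimes (hOcop.pow_right i)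
        (Subgroup.orderOf_dvd_natCard O ((QuotientGroup.eq_one_iff z).1 hz1)) (hi ▸ dvd_rfl))
    have hTcp : IsPGroup 2 Tc := T.2.map _
    have hu : TwoGroupsQ.HasUniqueOrderP ↥(pCore 2 (C ⧸ O)) 2 := by
      have hTu : ∀ x y : C, x ∈ Tc → y ∈ Tc → x ^ 2 = 1 → x ≠ 1 → y ^ 2 = 1 → y ≠ 1 → x = y := by
        haveI : Nontrivial Tc ∨ ¬ Nontrivial Tc := em _
        intro x y hx hy hx2 hx1 hy2 hy1
        obtain ⟨z, hz, hz1, hzc, hz2⟩ : ∃ z ∈ Tc, z ≠ 1 ∧ (∀ w ∈ Tc, z * w = w * z) ∧ z ^ 2 = 1 := by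
          haveI : Nontrivial Tc := ⟨⟨⟨x, hx⟩, 1, fun e => hx1 (congrArg Subtype.val e)⟩⟩
          haveI := hTcp.center_nontrivial
          obtain ⟨w, hw⟩ := exists_prime_orderOf_dvd_card' (G := center Tc) 2 (by
            obtain ⟨k, hk⟩ := IsPGroup.iff_card.1 (hTcp.to_subgroup (center Tc))
            have hlt := Finite.one_lt_card (α := center Tc)
            rw [hk] at hlt ⊢
            rcases k with _ | k
            · simp at hlt
            · exact dvd_pow_self 2 (by omega))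
          have ho' : orderOf ((w : Tc) : C) = 2 := by rw [orderOf_coe, orderOf_coe, hw]
          refine ⟨((w : Tc) : C), (w : Tc).2, fun e => by simp [e] at ho', fun v hv =>
            congrArg Subtype.val (mem_center_iff.1 w.2 ⟨v, hv⟩).symm, ?_⟩
          rw [← ho', pow_orderOf_eq_one]
        have hz' : ∀ v ∈ Tc, v ^ 2 = 1 → v ≠ 1 → v = z := fun v hv hv2 hv1 => by_contra fun hne =>
          hfour ⟨v, z, hv, hz, hv2, hz2, hv1, hz1, hne, (hzc v hv).symm⟩
        exact (hz' x hx hx2 hx1).trans (hz' y hy hy2 hy1).symm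
      refine TwoGroupsQ.hasUniqueOrderP_two fun x y hx2 hx1 hy2 hy1 => ?_
      obtain ⟨a, ha, hax⟩ := (hTmap.symm ▸ x.2 : (x : C ⧸ O) ∈ Tc.map π)
      obtain ⟨b, hb, hby⟩ := (hTmap.symm ▸ y.2 : (y : C ⧸ O) ∈ Tc.map π)
      refine Subtype.ext ?_
      rw [← hax, ← hby]
      refine congrArg π (hTu a b ha hb ?_ ?_ ?_ ?_)
      · exact hinj Tc hTcp _ (Tc.pow_mem ha 2) (by rw [map_pow, hax]; exact congrArg Subtype.val hx2)
      · exact fun e => hx1 (Subtype.ext (by rw [← hax, e, map_one]; rfl))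
      · exact hinj Tc hTcp _ (Tc.pow_mem hb 2) (by rw [map_pow, hby]; exact congrArg Subtype.val hy2)
      · exact fun e => hy1 (Subtype.ext (by rw [← hby, e, map_one]; rfl))
    have hQp : IsPGroup 2 (C ⧸ O) := by
      refine isPGroup_of_unique (CfsgLib.Inv53.centralizer_pCore_le_quotient (h.constr t ho)) hu
        (A := (A.subgroupOf C).map π) (CfsgLib.Transitivity.isElementaryAbelian_map ?_ π) ?_
      · exact ⟨⟨⟨fun x y => Subtype.ext (Subtype.ext (congrArg Subtype.val
          (hA.1.is_comm.comm (⟨_, x.2⟩ : A) ⟨_, y.2⟩) :))⟩⟩, fun x hx => Subtype.ext (hA.2 _ hx)⟩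
      · refine h8.trans (le_of_eq ?_)
        rw [← Nat.card_congr (subgroupOfEquivOfLe hAC).toEquiv]
        refine Nat.card_congr (Equiv.ofBijective (fun x : A.subgroupOf C =>
          (⟨π x, mem_map_of_mem π x.2⟩ : (A.subgroupOf C).map π)) ⟨fun x y e => ?_, ?_⟩)
        · have h1 : π ((x : C)⁻¹ * y) = 1 := by
            have e' : π (x : C) = π (y : C) := congrArg Subtype.val e
            rw [map_mul, map_inv, e', inv_mul_cancel]
          exact Subtype.ext (inv_mul_eq_one.1 (hinj _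
            ((CfsgLib.Transitivity.isPGroup_of_elab hA).comap_subtype) _ (mul_mem (inv_mem x.2) y.2) h1))
        · rintro ⟨_, ⟨x, hx, rfl⟩⟩
          exact ⟨⟨x, hx⟩, rfl⟩
    have hidx : (R : Subgroup C).map π = ⊤ := by
      obtain ⟨k, hk⟩ := IsPGroup.iff_card.1 hQp
      obtain ⟨i, -, hi⟩ := (Nat.dvd_prime_pow Nat.prime_two).1
        (hk ▸ Subgroup.index_dvd_card ((R : Subgroup C).map π))
      refine index_eq_one.1 ?_
      rcases i with _ | i
      · simpa using hi
      · exfalso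
        refine R.not_dvd_index (dvd_trans ⟨2 ^ i, by ring⟩
          (hi ▸ Subgroup.index_map_dvd (R : Subgroup C) (QuotientGroup.mk'_surjective O)))
    obtain ⟨r, hr, e⟩ := (hidx.symm ▸ mem_top (π n) : π n ∈ (R : Subgroup C).map π)
    have : (n : G) = (r : G) * ((r⁻¹ * n : C) : G) := by simp
    rw [this]
    exact mul_mem (hRM ⟨r, hr, rfl⟩) (hOM _ (QuotientGroup.eq.1 e))

/-- **All cores of involution centralisers are trivial.** -/
theorem Setting.th_eq_bot (h : Setting S E) (hB : CoreInCore G) (hO : oddCore G = ⊥) {t : G}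
    (ho : orderOf t = 2) : centralizerPPrimeCore 2 t = ⊥ := by
  classical
  haveI : Fact (Nat.Prime 2) := ⟨Nat.prime_two⟩
  set M := normalizer (cl E : Set G) with hM
  have hodd := h.cl_odd
  have hW : cl E = ⊥ := by
    refine le_bot_iff.1 (hO ▸ ?_)
    by_cases htop : M = ⊤
    · haveI : (cl E).Normal := normalizer_eq_top_iff.1 htop
      exact CfsgLib.PLocal.le_pPrimeCore (Nat.coprime_two_right.2 hodd)
    have heven : Even (Nat.card M) := by
      have h8 := dvd_trans (card_dvd_of_le h.le_S) (card_dvd_of_le h.sylow_le_normalizer)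
      obtain ⟨n, hn⟩ := (isPGroup_of_elab h.elab_E).exists_card_eq
      have := h.eight
      rw [hn] at h8 this
      rcases n with _ | n
      · simp at this
      exact even_iff_two_dvd.2 (dvd_trans (dvd_pow_self 2 (by omega)) h8)
    have hse : IsStronglyEmbedded M := by
      rw [CfsgLib.Small.isStronglyEmbedded_iff_centralizer htop heven]
      refine ⟨fun s hs hos => h.centralizer_le hs hos, fun s hs r hr hos hor hconj => ?_⟩
      obtain ⟨g, hg⟩ := isConj_iff.1 hconj
      obtain ⟨A, hA, h8, hAM, hsA, -⟩ := h.exists_eight hs hos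
      refine ⟨g, h.key hA (le_trans (by norm_num) h8) hAM ?_, hg⟩
      refine le_trans ?_ (h.centralizer_le hr hor)
      rintro _ ⟨a, ha, rfl⟩
      rw [mem_centralizer_singleton_iff, ← hg]
      have hc : a * s = s * a := congrArg Subtype.val (hA.1.is_comm.comm ⟨a, ha⟩ ⟨s, hsA⟩)
      show g * a * g⁻¹ * (g * s * g⁻¹) = g * s * g⁻¹ * (g * a * g⁻¹)
      rw [show g * a * g⁻¹ * (g * s * g⁻¹) = g * (a * s) * g⁻¹ by group, hc]
      group
    refine le_trans ?_ (hB M hse)
    intro x hx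
    refine ⟨⟨x, le_normalizer hx⟩, ?_, rfl⟩
    haveI : ((cl E).subgroupOf M).Normal := normal_in_normalizer
    exact CfsgLib.PLocal.le_pPrimeCore (Nat.coprime_two_right.2
      (by rwa [Nat.card_congr (subgroupOfEquivOfLe (le_normalizer : cl E ≤ M)).toEquiv]))
      (mem_subgroupOf.2 hx)
  obtain ⟨g, hg⟩ : ∃ g : G, g * t * g⁻¹ ∈ (S : Subgroup G) := by
    obtain ⟨Q, hQ⟩ := (CfsgLib.ZCGroup.isPGroup_zpowers_of_orderOf ho).exists_le_sylow
    obtain ⟨g, hg⟩ := MulAction.exists_smul_eq G Q S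
    exact ⟨g, hg ▸ ⟨t, hQ (mem_zpowers t), rfl⟩⟩
  obtain ⟨-, -, -, -, -, hth⟩ := h.exists_eight (h.sylow_le_normalizer hg)
    ((MulEquiv.orderOf_eq (MulAut.conj g) t).trans ho)
  rw [hW, le_bot_iff, th_conj, Subgroup.map_eq_bot_iff_of_injective _ (MulAut.conj g).injective] at hth
  exact hth


end CfsgLib.CoreKillConn
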