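import Cfsg.Agent.CoreKillConn.StableCore
import Cfsg.Agent.Classification.Four
import Cfsg.Agent.OddOrder.BG4.Basic
import Cfsg.Agent.CharPLocal.Two

/-!
# The closure of the core functor when no normal elementary group of order eight exists

`S` is a Sylow 2-subgroup of 2-rank at least three without a normal elementary abelian subgroup of order
eight, `V` a four-group normal in `S`. All elementary groups of order at least eight of `S` have the
closure `cl V`.
-/

set_option autoImplicit false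

namespace CfsgLib.CoreKillConn

open Cfsg Subgroup
open CfsgLib.SolvSig CfsgLib.Transitivity CfsgLib.CoreKill63

variable {G : Type*} [Group G] [Finite G]

omit [Finite G] in
theorem commute_of_elab {A : Subgroup G} (hA : IsElementaryAbelian 2 A) {a b : G} (ha : a ∈ A)
    (hb : b ∈ A) : a * b = b * a :=
  congrArg Subtype.val (hA.1.is_comm.comm ⟨a, ha⟩ ⟨b, hb⟩)

omit [Finite G] in
theorem mul_self_of_invol {x : G} (hx : orderOf x = 2) : x * x = 1 := by
  rw [← sq, ← hx, pow_orderOf_eq_one]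

omit [Finite G] in
theorem ne_one_of_invol {x : G} (hx : orderOf x = 2) : x ≠ 1 := fun e => by simp [e] at hx

/-- The standing data. -/
structure NoEight (S : Sylow 2 G) (V : Subgroup G) : Prop where
  constr : Constr G
  small : ∀ B : Subgroup G, B ≤ (S : Subgroup G) → (S : Subgroup G) ≤ normalizer (B : Set G) →
    IsElementaryAbelian 2 B → Nat.card B ≤ 4
  rank : ∃ E : Subgroup G, E ≤ (S : Subgroup G) ∧ IsElementaryAbelian 2 E ∧ 8 ≤ Nat.card E
  four : IsKleinFour V
  le_S : V ≤ (S : Subgroup G)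
  norm : (S : Subgroup G) ≤ normalizer (V : Set G)

/-- `C_S(V)`. -/
def fixer (S : Sylow 2 G) (V : Subgroup G) : Subgroup G :=
  (S : Subgroup G) ⊓ centralizer (V : Set G)

variable {S : Sylow 2 G} {V : Subgroup G}

omit [Finite G] in
theorem NoEight.elab_V (h : NoEight S V) : IsElementaryAbelian 2 V :=
  ⟨⟨⟨fun a b => Subtype.ext (CfsgLib.Classification.comm_of_isKleinFour h.four a.2 b.2)⟩⟩,
    fun a ha => by rw [sq]; exact CfsgLib.Classification.sq_eq_one_of_isKleinFour h.four ha⟩

omit [Finite G] in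
theorem NoEight.card_V (h : NoEight S V) : Nat.card V = 4 := h.four.card_four

theorem NoEight.relIndex_fixer (h : NoEight S V) :
    (fixer S V).relIndex (S : Subgroup G) ≤ 2 := by
  have : Fact (Nat.Prime 2) := ⟨Nat.prime_two⟩
  have : (V.subgroupOf (S : Subgroup G)).Normal :=
    (normal_subgroupOf_iff_le_normalizer h.le_S).2 h.norm
  have hle := CfsgLib.OddOrder.BG4.index_centralizer_le S.2 (V := V.subgroupOf (S : Subgroup G))
    (fun v hv => Subtype.ext (h.elab_V.2 _ hv))
    (le_of_eq (by rw [Nat.card_congr (subgroupOfEquivOfLe h.le_S).toEquiv, h.card_V]; norm_num))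
  have e : (fixer S V).subgroupOf (S : Subgroup G) =
      centralizer (V.subgroupOf (S : Subgroup G) : Set ↥(S : Subgroup G)) := by
    ext x
    simp only [fixer, mem_subgroupOf, mem_inf, SetLike.coe_mem, true_and, mem_centralizer_iff,
      SetLike.mem_coe]
    refine ⟨fun hx v hv => Subtype.ext (hx v hv), fun hx v hv => ?_⟩
    exact congrArg Subtype.val (hx ⟨v, h.le_S hv⟩ hv)
  show ((fixer S V).subgroupOf (S : Subgroup G)).index ≤ 2
  rw [e]
  exact hle

theorem NoEight.mul_mem_fixer (h : NoEight S V) {a b : G} (ha : a ∈ (S : Subgroup G))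
    (hb : b ∈ (S : Subgroup G)) (ha' : a ∉ fixer S V) (hb' : b ∉ fixer S V) :
    a * b ∈ fixer S V := by
  have hne : ((fixer S V).subgroupOf (S : Subgroup G)).index = 2 := by
    have h1 : ((fixer S V).subgroupOf (S : Subgroup G)).index ≤ 2 := h.relIndex_fixer
    have h2 : ((fixer S V).subgroupOf (S : Subgroup G)).index ≠ 1 := fun e => ha' <| by
      have := index_eq_one.1 e ▸ mem_top (⟨a, ha⟩ : (S : Subgroup G))
      exact mem_subgroupOf.1 this
    have h0 := Subgroup.index_ne_zero_of_finite (H := (fixer S V).subgroupOf (S : Subgroup G))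
    omega
  have := (mul_mem_iff_of_index_two hne (a := ⟨a, ha⟩) (b := ⟨b, hb⟩)).2
    (iff_of_false (fun hh => ha' (mem_subgroupOf.1 hh)) (fun hh => hb' (mem_subgroupOf.1 hh)))
  exact mem_subgroupOf.1 this

theorem NoEight.sq_mem_fixer (h : NoEight S V) {a : G} (ha : a ∈ (S : Subgroup G)) :
    a * a ∈ fixer S V := by
  by_cases ha' : a ∈ fixer S V
  · exact mul_mem ha' ha'
  · exact h.mul_mem_fixer ha ha ha' ha'

theorem NoEight.four_le_inf (h : NoEight S V) {A : Subgroup G} 
    (h8 : 8 ≤ Nat.card A) (hAS : A ≤ (S : Subgroup G)) :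
    2 ^ 2 ≤ Nat.card ↥(A ⊓ fixer S V) := by
  have h1 : (fixer S V).relIndex A ≤ 2 :=
    (relIndex_le_of_le_right hAS (by exact index_ne_zero_of_finite)).trans h.relIndex_fixer
  have h2 : Nat.card ↥(A ⊓ fixer S V) * (fixer S V).relIndex A = Nat.card A := by
    rw [← inf_relIndex_left]
    exact relIndex_bot_left (A ⊓ fixer S V) ▸ relIndex_bot_left A ▸
      relIndex_mul_relIndex ⊥ (A ⊓ fixer S V) A bot_le inf_le_left
  have := Nat.mul_le_mul_left (Nat.card ↥(A ⊓ fixer S V)) h1
  omega

/-- An elementary group of order eight of `S` has closure `cl V`, and `V` lies in one. -/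
theorem NoEight.cl_eight (h : NoEight S V) {A : Subgroup G} (hA : IsElementaryAbelian 2 A)
    (h8 : 8 ≤ Nat.card A) (hAS : A ≤ (S : Subgroup G)) :
    cl A = cl V ∧ ∃ B : Subgroup G, IsElementaryAbelian 2 B ∧ 8 ≤ Nat.card B ∧
      B ≤ (S : Subgroup G) ∧ V ≤ B := by
  have : Fact (Nat.Prime 2) := ⟨Nat.prime_two⟩
  set F := A ⊓ fixer S V
  have hF : IsElementaryAbelian 2 F := elab_of_le_of_elab hA inf_le_left
  have h4 := h.four_le_inf h8 hAS
  have hc : F ≤ centralizer (V : Set G) := fun x hx => hx.2.2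
  have hVF := CfsgLib.SolvSig.isElementaryAbelian_sup h.elab_V hF hc
  have e1 := cl_eq_of_le h.constr hA h8 h4 inf_le_left
  have hV4 : 2 ^ 2 ≤ Nat.card V := by rw [h.card_V]; norm_num
  by_cases h8' : 8 ≤ Nat.card ↥(V ⊔ F)
  · refine ⟨?_, V ⊔ F, hVF, h8', sup_le h.le_S (inf_le_left.trans hAS), le_sup_left⟩
    rw [e1, ← cl_eq_of_le h.constr hVF h8' h4 le_sup_right,
      cl_eq_of_le h.constr hVF h8' hV4 le_sup_left]
  · have hle : Nat.card ↥(V ⊔ F) ≤ 4 := by
      by_contra hlt
      exact h8' (pow_succ_le_card hVF (k := 2) (by omega))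
    have eV : V = V ⊔ F := eq_of_le_of_card_ge le_sup_left (by rw [h.card_V]; exact hle)
    have eF : F = V ⊔ F := eq_of_le_of_card_ge le_sup_right (hle.trans h4)
    exact ⟨e1.trans (congrArg cl (eF.trans eV.symm)), A, hA, h8, hAS,
      (eV.trans eF.symm).le.trans inf_le_left⟩

theorem NoEight.exists_eight_V (h : NoEight S V) : ∃ B : Subgroup G, IsElementaryAbelian 2 B ∧
    8 ≤ Nat.card B ∧ B ≤ (S : Subgroup G) ∧ V ≤ B := by
  obtain ⟨E, hES, hE, h8⟩ := h.rank
  exact (h.cl_eight hE h8 hES).2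

/-- An involution of `C_S(V)` lies in an elementary group of order eight of `S`. -/
theorem NoEight.exists_A (h : NoEight S V) {y : G} (hy : y ∈ fixer S V) (ho : orderOf y = 2) :
    ∃ A : Subgroup G, IsElementaryAbelian 2 A ∧ 8 ≤ Nat.card A ∧ A ≤ (S : Subgroup G) ∧ y ∈ A := by
  have : Fact (Nat.Prime 2) := ⟨Nat.prime_two⟩
  by_cases hyV : y ∈ V
  · obtain ⟨B, hB, h8, hBS, hVB⟩ := h.exists_eight_V
    exact ⟨B, hB, h8, hBS, hVB hyV⟩
  · have hA := CfsgLib.SolvSig.isElementaryAbelian_sup h.elab_V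
      (elab_zpowers (by rw [sq]; exact mul_self_of_invol ho)) (zpowers_le.2 hy.2)
    refine ⟨_, hA, ?_, sup_le h.le_S (zpowers_le.2 hy.1), mem_sup_right (mem_zpowers y)⟩
    refine pow_succ_le_card hA (k := 2) ?_
    have hlt : V < V ⊔ zpowers y := lt_of_le_of_ne le_sup_left fun e =>
      hyV (e ▸ mem_sup_right (mem_zpowers y))
    by_contra hle
    exact hlt.ne (eq_of_le_of_card_ge hlt.le (by rw [h.card_V]; omega))

/-- `Ω₁(Z(C_S(V))) = V`. -/
theorem NoEight.mem_V (h : NoEight S V) {x : G} (hx : x ∈ fixer S V) (hx2 : x * x = 1)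
    (hxc : ∀ c ∈ fixer S V, c * x = x * c) : x ∈ V := by
  have : Fact (Nat.Prime 2) := ⟨Nat.prime_two⟩
  let B : Subgroup G :=
    { carrier := {u | u ∈ fixer S V ∧ u * u = 1 ∧ ∀ c ∈ fixer S V, c * u = u * c}
      one_mem' := ⟨one_mem _, one_mul 1, fun c _ => by simp⟩
      mul_mem' := fun {a b} ha hb => ⟨mul_mem ha.1 hb.1, by
        rw [show a * b * (a * b) = a * (b * a) * b by group, ha.2.2 b hb.1, ← mul_assoc a a b, ha.2.1,
          one_mul, hb.2.1], fun c hc => by
        rw [← mul_assoc, ha.2.2 c hc, mul_assoc, hb.2.2 c hc, mul_assoc]⟩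
      inv_mem' := fun {a} ha => by
        rw [inv_eq_of_mul_eq_one_left ha.2.1]; exact ha }
  have hB : IsElementaryAbelian 2 B := ⟨⟨⟨fun a b => Subtype.ext (b.2.2.2 a a.2.1)⟩⟩,
    fun a ha => by rw [sq]; exact ha.2.1⟩
  have hVB : V ≤ B := fun v hv => ⟨⟨h.le_S hv, mem_centralizer_iff.2 fun w hw =>
    commute_of_elab h.elab_V hw hv⟩, CfsgLib.Classification.sq_eq_one_of_isKleinFour h.four hv,
    fun c hc => (mem_centralizer_iff.1 hc.2 v hv).symm⟩
  have hn : (S : Subgroup G) ≤ normalizer (B : Set G) := by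
    have hfix : (S : Subgroup G) ≤ normalizer (fixer S V : Set G) := by
      refine le_trans ?_ (inf_normalizer_le_normalizer_inf)
      refine le_inf le_normalizer ?_
      exact h.norm.trans (CfsgLib.CharPLocal.normalizer_le_normalizer_centralizer V)
    refine le_normalizer_of_forall_conj fun s hs u hu => ⟨?_, ?_, fun c hc => ?_⟩
    · exact (mem_normalizer_iff.1 (hfix hs) u).1 hu.1
    · calc s * u * s⁻¹ * (s * u * s⁻¹) = s * (u * u) * s⁻¹ := by group
        _ = 1 := by rw [hu.2.1, mul_one, mul_inv_cancel]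
    · have hc' : s⁻¹ * c * s ∈ fixer S V := by
        simpa using (mem_normalizer_iff.1 (hfix (inv_mem hs)) c).1 hc
      calc c * (s * u * s⁻¹) = s * (s⁻¹ * c * s * u) * s⁻¹ := by group
        _ = s * (u * (s⁻¹ * c * s)) * s⁻¹ := by rw [hu.2.2 _ hc']
        _ = s * u * s⁻¹ * c := by group
  have h4 := h.small B (fun u hu => hu.1.1) hn hB
  have : V = B := eq_of_le_of_card_ge hVB (by rw [h.card_V]; exact h4)
  rw [this]
  exact ⟨hx, hx2, hxc⟩

theorem NoEight.sylow_le_normalizer (h : NoEight S V) :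
    (S : Subgroup G) ≤ normalizer (cl V : Set G) := by
  intro s hs
  rw [mem_normalizer_iff_map_conj_eq]
  exact (cl_map V s).trans (congrArg cl (mem_normalizer_iff_map_conj_eq.1 (h.norm hs)))

theorem NoEight.cl_odd (h : NoEight S V) : Odd (Nat.card (cl V)) := by
  have : Fact (Nat.Prime 2) := ⟨Nat.prime_two⟩
  obtain ⟨E, hES, hE, h8⟩ := h.rank
  rw [← (h.cl_eight hE h8 hES).1]
  refine Nat.not_even_iff_odd.1 fun he => ?_
  exact (isSolvable_signalizerClosure hE h8
    (restrict_isSolvableSignalizerFunctor (fun a _ => th_props a) (fun a g _ => th_conj a g)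
      (fun a b ha hb hab => th_bal h.constr ha.1 hb.1 hab) hE
      (not_pRankLE_of_card hE h8))).2 (even_iff_two_dvd.1 he)

/-- A 2-subgroup of `N(W)` is conjugate in `N(W)` into `S`. -/
theorem NoEight.exists_conj_le (h : NoEight S V) {F : Subgroup G} (hF : IsPGroup 2 F)
    (hFM : F ≤ normalizer (cl V : Set G)) :
    ∃ m ∈ normalizer (cl V : Set G), F.map (MulAut.conj m).toMonoidHom ≤ (S : Subgroup G) := by
  obtain ⟨k, hk, hkF⟩ :=
    CfsgLib.ZCGroup.exists_conj_mem_sylow (S.subtype h.sylow_le_normalizer) hF hFM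
  refine ⟨k, hk, ?_⟩
  rintro _ ⟨x, hx, rfl⟩
  obtain ⟨y, hy, e⟩ := hkF x hx
  have hy' : (y : G) ∈ (S : Subgroup G) := hy
  have e' : (y : G) = k * x * k⁻¹ := e
  show k * x * k⁻¹ ∈ (S : Subgroup G)
  rw [← e']
  exact hy'

/-- All closures over elementary groups of order eight of `N(W)` agree. -/
theorem NoEight.cl_eq (h : NoEight S V) {A : Subgroup G} (hA : IsElementaryAbelian 2 A)
    (h8 : 8 ≤ Nat.card A) (hAM : A ≤ normalizer (cl V : Set G)) : cl A = cl V := by
  obtain ⟨m, hm, hle⟩ := h.exists_conj_le (isPGroup_of_elab hA) hAM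
  have h1 := (h.cl_eight (isElementaryAbelian_map hA _)
    (by rw [card_map_of_injective (MulAut.conj m).injective]; exact h8) hle).1
  exact map_injective (MulAut.conj m).injective
    ((cl_map A m).trans (h1.trans (mem_normalizer_iff_map_conj_eq.1 hm).symm))

/-- `N(W)` contains everything carrying such a group of `N(W)` into `N(W)`. -/
theorem NoEight.key (h : NoEight S V) {A : Subgroup G} (hA : IsElementaryAbelian 2 A)
    (h8 : 8 ≤ Nat.card A) (hAM : A ≤ normalizer (cl V : Set G)) {g : G}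
    (hg : A.map (MulAut.conj g).toMonoidHom ≤ normalizer (cl V : Set G)) :
    g ∈ normalizer (cl V : Set G) := by
  rw [mem_normalizer_iff_map_conj_eq]
  have h1 := h.cl_eq (isElementaryAbelian_map hA _)
    (by rw [card_map_of_injective (MulAut.conj g).injective]; exact h8) hg
  have h2 := (cl_map A g).trans h1
  rw [h.cl_eq hA h8 hAM] at h2
  exact h2

end CfsgLib.CoreKillConn
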