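import Cfsg.Agent.CoreKillConn.Twist
import Cfsg.Agent.S0112
import Cfsg.Agent.S0113
import Cfsg.Agent.Inv53.TransferTwo

/-!
# Cores vanish without a normal elementary group of order eight and without index two

All involutions of `N(W)` lie in elementary groups of order eight of `N(W)` and have their centralisers
there, so `N(W)` is strongly embedded or everything.
-/

set_option autoImplicit false
set_option linter.style.haveILetI false

namespace CfsgLib.CoreKillConn

open Cfsg Subgroup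
open CfsgLib.SolvSig CfsgLib.Transitivity CfsgLib.CoreKill63

universe u

variable {G : Type u} [Group G] [Finite G] {S : Sylow 2 G} {V : Subgroup G}

/-- Frattini over `O_{2',2}`. -/
theorem centralizer_le_of_normalizer {t : G} {W : Subgroup G} (hth : th t ≤ W)
    (T : Sylow 2 (pPrimePCore 2 (centralizer ({t} : Set G))))
    (hN : ∀ n ∈ normalizer (((T : Subgroup _).map
      (pPrimePCore 2 (centralizer ({t} : Set G))).subtype : Subgroup _) : Set (centralizer ({t} : Set G))),
      (n : G) ∈ normalizer (W : Set G)) :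
    centralizer ({t} : Set G) ≤ normalizer (W : Set G) := by
  have : Fact (Nat.Prime 2) := ⟨Nat.prime_two⟩
  have htop := CfsgLib.PLocal.normalizer_sylow_pPrimePCore_sup (G := centralizer ({t} : Set G)) T
  intro c hc
  obtain ⟨n, hn, o, ho', e⟩ := mem_sup_of_normal_right.1
    (htop.symm ▸ mem_top (⟨c, hc⟩ : centralizer ({t} : Set G)) :
      (⟨c, hc⟩ : centralizer ({t} : Set G)) ∈
      normalizer (((T : Subgroup _).map (pPrimePCore 2 (centralizer ({t} : Set G))).subtype :
        Subgroup (centralizer ({t} : Set G))) : Set (centralizer ({t} : Set G))) ⊔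
        pPrimeCore 2 (centralizer ({t} : Set G)))
  rw [show c = (n : G) * o from (congrArg Subtype.val e).symm]
  exact mul_mem (hN n hn) (le_normalizer (hth ⟨o, ho', rfl⟩))

/-- A central involution of `S` lies in `V`. -/
theorem NoEight.central_mem (h : NoEight S V) {z : G} (hz : z ∈ (S : Subgroup G))
    (ho : orderOf z = 2) (hc : ∀ s ∈ (S : Subgroup G), s * z = z * s) : z ∈ V :=
  h.mem_V ⟨hz, mem_centralizer_iff.2 fun v hv => hc v (h.le_S hv)⟩ (mul_self_of_invol ho)
    fun c hc' => hc c hc'.1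

/-- **Centralisers of central involutions of `S` lie in `N(W)`.** -/
theorem NoEight.centralizer_central (h : NoEight S V) {z : G} (hz : z ∈ (S : Subgroup G))
    (ho : orderOf z = 2) (hc : ∀ s ∈ (S : Subgroup G), s * z = z * s) :
    centralizer ({z} : Set G) ≤ normalizer (cl V : Set G) := by
  have : Fact (Nat.Prime 2) := ⟨Nat.prime_two⟩
  have hzV := h.central_mem hz ho hc
  set C := centralizer ({z} : Set G) with hC
  have hSC : (S : Subgroup G) ≤ C := fun s hs => mem_centralizer_singleton_iff.2 (hc s hs)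
  let R : Sylow 2 C := S.subtype hSC
  obtain ⟨T, hT⟩ := CfsgLib.MaxNormalizer.exists_sylow_normal R (pPrimePCore 2 C)
  refine centralizer_le_of_normalizer (le_signalizerClosure hzV (ne_one_of_invol ho)) T fun n hn => ?_
  refine h.mem_of_twist hzV ho (mem_centralizer_singleton_iff.1 n.2) ?_
  rintro _ ⟨v, hv, rfl⟩
  have hvR : (⟨v, hSC (h.le_S hv)⟩ : C) ∈ (R : Subgroup C) := h.le_S hv
  have hvQ : (⟨v, hSC (h.le_S hv)⟩ : C) ∈ pPrimePCore 2 C := by
    refine mem_pPrimePCore_of_stable h.constr ho R _ fun r hr => ?_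
    have hrS : (r : G) ∈ (S : Subgroup G) := hr
    by_cases hv1 : v = 1
    · exact Or.inl (by simp [hv1])
    by_cases hvz : v = z
    · exact Or.inl (mul_inv_eq_iff_eq_mul.2 (by show (r : G) * v = v * r; rw [hvz]; exact hc r hrS))
    rcases eq_or_eq_mul_of_mem h.four hzV hv ((mem_normalizer_iff.1 (h.norm hrS) v).1 hv)
      (ne_one_of_invol ho) hv1 hvz with e | e | e | e
    · exact absurd (by simpa using e) hv1
    · refine absurd ?_ hvz
      have hrz : (r : G) * z * (r : G)⁻¹ = z := mul_inv_eq_iff_eq_mul.2 (hc r hrS)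
      exact mul_left_cancel (mul_right_cancel (e.trans hrz.symm))
    · exact Or.inl e
    · exact Or.inr e
  have hvT : (⟨v, hSC (h.le_S hv)⟩ : C) ∈
      (T : Subgroup (pPrimePCore 2 C)).map (pPrimePCore 2 C).subtype :=
    ⟨⟨_, hvQ⟩, (hT _).2 hvR, rfl⟩
  obtain ⟨x, hx, hx'⟩ := (mem_normalizer_iff.1 hn _).1 hvT
  have hxS : ((x : C) : G) ∈ (S : Subgroup G) := (hT x).1 hx
  have e : ((x : C) : G) = (n : G) * v * (n : G)⁻¹ := congrArg Subtype.val hx'
  exact h.sylow_le_normalizer (e ▸ hxS :)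

/-- An involution of `S` with a maximal centraliser in `N(W)` lies in an elementary group of order
eight of `S`. -/
theorem NoEight.exists_A_of_max (h : NoEight S V)
    (hind : ∀ N : Subgroup G, N.Normal → N.index ≠ 2) {t : G} (ht : t ∈ (S : Subgroup G))
    (ho : orderOf t = 2)
    (hmax : ∀ X : Subgroup G, IsPGroup 2 X → X ≤ centralizer ({t} : Set G) →
      X ≤ normalizer (cl V : Set G) → (S : Subgroup G) ⊓ centralizer ({t} : Set G) ≤ X →
      X ≤ (S : Subgroup G)) :
    ∃ A : Subgroup G, IsElementaryAbelian 2 A ∧ 8 ≤ Nat.card A ∧ A ≤ (S : Subgroup G) ∧ t ∈ A := by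
  classical
  have : Fact (Nat.Prime 2) := ⟨Nat.prime_two⟩
  by_cases htC : t ∈ fixer S V
  · exact h.exists_A htC ho
  set P := (S : Subgroup G) ⊓ centralizer ({t} : Set G) with hP
  set C := centralizer ({t} : Set G) with hC
  have htP : t ∈ P := ⟨ht, mem_centralizer_singleton_iff.2 rfl⟩
  obtain ⟨z, hzS, hz, hzc⟩ := CfsgLib.CharPLocal.exists_involution_center_of_ne_bot S.2
    (fun hbot => ne_one_of_invol ho (by rw [hbot, mem_bot] at ht; exact ht))
  have hzP : z ∈ P := ⟨hzS, mem_centralizer_singleton_iff.2 (hzc t ht).symm⟩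
  have hzC : z ∈ fixer S V :=
    ⟨hzS, mem_centralizer_iff.2 fun v hv => hzc v (h.le_S hv)⟩
  by_cases hu : ∃ u ∈ P, u ∈ fixer S V ∧ u * u = 1 ∧ u ≠ 1 ∧ u ≠ z
  · obtain ⟨u, huP, huC, hu2, hu1, huz⟩ := hu
    have hZT := CfsgLib.SolvSig.isElementaryAbelian_sup (elab_zpowers (G := G) (a := z)
      (by rw [sq]; exact mul_self_of_invol hz)) (elab_zpowers (a := t)
      (by rw [sq]; exact mul_self_of_invol ho)) (zpowers_le.2 (mem_centralizer_iff.2 fun w hw => by
        obtain ⟨i, rfl⟩ := mem_zpowers_iff.1 hw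
        exact (Commute.zpow_left (show Commute z t from (hzc t ht).symm) i).eq))
    have hA := CfsgLib.SolvSig.isElementaryAbelian_sup hZT (elab_zpowers (a := u)
      (by rw [sq]; exact hu2)) (zpowers_le.2 (by
        rw [mem_centralizer_iff]
        intro w hw
        have hle : zpowers z ⊔ zpowers t ≤ centralizer ({u} : Set G) := sup_le
          (zpowers_le.2 (mem_centralizer_singleton_iff.2 (hzc u huP.1).symm))
          (zpowers_le.2 (mem_centralizer_singleton_iff.2
            (mem_centralizer_singleton_iff.1 huP.2).symm))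
        exact mem_centralizer_singleton_iff.1 (hle hw)))
    refine ⟨_, hA, ?_, sup_le (sup_le (zpowers_le.2 hzS) (zpowers_le.2 ht)) (zpowers_le.2 huP.1),
      mem_sup_left (mem_sup_right (mem_zpowers t))⟩
    refine pow_succ_le_card hA (k := 2) (lt_of_le_of_lt (card_ge_four_of
      (mem_sup_left (mem_zpowers z)) (mem_sup_right (mem_zpowers t)) (ne_one_of_invol hz)
      (ne_one_of_invol ho) (fun e => htC (e ▸ hzC)) hZT) ?_)
    have hnot : u ∉ zpowers z ⊔ zpowers t := by
      intro hmem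
      obtain ⟨a, ha, b, hb, e⟩ := Coprime.exists_mul_of_mem_sup
        (fun w hw => centralizer_le_normalizer _ (mem_centralizer_iff.2 fun v hv => by
          obtain ⟨i, rfl⟩ := mem_zpowers_iff.1 hv
          obtain ⟨j, rfl⟩ := mem_zpowers_iff.1 hw
          exact ((Commute.zpow_zpow (show Commute t z from hzc t ht) j i).symm).eq)) hmem
      have key : ∀ {c d : G}, orderOf c = 2 → d ∈ zpowers c → d = 1 ∨ d = c := by
        intro c d hc hd
        obtain ⟨k, rfl⟩ := mem_zpowers_iff.1 hd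
        rcases Int.even_or_odd' k with ⟨i, rfl | rfl⟩
        · left; rw [zpow_mul, zpow_ofNat, sq, mul_self_of_invol hc, one_zpow]
        · right
          rw [zpow_add, zpow_mul, zpow_ofNat, sq, mul_self_of_invol hc, one_zpow, one_mul, zpow_one]
      rcases key hz ha with rfl | rfl <;> rcases key ho hb with rfl | rfl
      · exact hu1 (by simpa using e.symm)
      · exact htC (by simp only [one_mul] at e; exact e ▸ huC)
      · exact huz (by simpa using e.symm)
      · exact htC ((mul_mem_cancel_left hzC).1 (e ▸ huC))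
    refine lt_of_le_of_ne (Subgroup.card_le_of_le le_sup_left) fun e => hnot ?_
    rw [eq_of_le_of_card_ge (le_sup_left : zpowers z ⊔ zpowers t ≤ _) e.ge]
    exact mem_sup_right (mem_zpowers u)
  push Not at hu
  by_cases hsq : ∀ q ∈ P, q * q = 1
  · -- `C_S(t)` of order four: maximal class
    exfalso
    have hPc : ∀ a ∈ P, a = 1 ∨ a = z ∨ a = t ∨ a = z * t := fun a ha => by
      by_cases ha' : a ∈ fixer S V
      · by_cases h1 : a = 1
        · exact Or.inl h1
        · exact Or.inr (Or.inl (hu a ha ha' (hsq a ha) h1))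
      · have hat := h.mul_mem_fixer ha.1 ht ha' htC
        have hatP : a * t ∈ P := mul_mem ha htP
        by_cases h1 : a * t = 1
        · refine Or.inr (Or.inr (Or.inl ?_))
          rw [mul_eq_one_iff_eq_inv, inv_eq_of_mul_eq_one_left (mul_self_of_invol ho)] at h1
          exact h1
        · refine Or.inr (Or.inr (Or.inr ?_))
          rw [← hu (a * t) hatP hat (hsq _ hatP) h1, mul_assoc, mul_self_of_invol ho, mul_one]
    have h4 : Nat.card (P.subgroupOf (S : Subgroup G)) = 2 ^ 2 := by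
      rw [Nat.card_congr (subgroupOfEquivOfLe (inf_le_left : P ≤ (S : Subgroup G))).toEquiv]
      let K := CfsgLib.Classification.fourSpan z t (mul_self_of_invol hz) (mul_self_of_invol ho)
        (hzc t ht).symm
      have hK : IsKleinFour K := CfsgLib.Classification.isKleinFour_fourSpan _ _ _ (ne_one_of_invol hz)
        (ne_one_of_invol ho) (fun e => htC (e ▸ hzC))
      have : P = K := le_antisymm (fun a ha => CfsgLib.Classification.mem_fourSpan.2 (hPc a ha))
        fun a ha => by
          rcases CfsgLib.Classification.mem_fourSpan.1 ha with rfl | rfl | rfl | rfl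
          exacts [one_mem _, hzP, htP, mul_mem hzP htP]
      exact (congrArg (fun H : Subgroup G => Nat.card H) this).trans
        (hK.card_four.trans (by norm_num))
    obtain ⟨k, hk⟩ := IsPGroup.iff_card.1 S.2
    obtain ⟨E, hES, hE, h8⟩ := h.rank
    have hk3 : 3 ≤ k := by
      by_contra hlt
      have h1 := (Subgroup.card_le_of_le hES).trans (hk.le.trans
        (Nat.pow_le_pow_right (by norm_num) (show k ≤ 2 by omega)))
      omega
    have hcen : centralizer (P.subgroupOf (S : Subgroup G) : Set ↥(S : Subgroup G)) =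
        P.subgroupOf (S : Subgroup G) := by
      refine le_antisymm (fun x hx => ?_) (fun x hx => mem_centralizer_iff.2 fun w hw => ?_)
      · exact mem_subgroupOf.2 ⟨x.2, mem_centralizer_singleton_iff.2 (congrArg Subtype.val
          (mem_centralizer_iff.1 hx ⟨t, ht⟩ (show (⟨t, ht⟩ : ↥(S : Subgroup G)) ∈
            P.subgroupOf (S : Subgroup G) from htP))).symm⟩
      · refine Subtype.ext ?_
        show (w : G) * x = x * w
        have hm := hsq _ (mul_mem (mem_subgroupOf.1 hw) (mem_subgroupOf.1 hx))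
        have hw2 := hsq _ (mem_subgroupOf.1 hw)
        have hx2 := hsq _ (mem_subgroupOf.1 hx)
        calc (w : G) * x = ((w : G) * x)⁻¹ := (inv_eq_of_mul_eq_one_left hm).symm
          _ = x * w := by
            rw [mul_inv_rev, inv_eq_of_mul_eq_one_left hw2, inv_eq_of_mul_eq_one_left hx2]
    obtain ⟨Z, hZc, hZi⟩ := Cfsg.Agent.S0113.result k hk3 hk
      (Cfsg.Agent.S0112.result k hk (P.subgroupOf (S : Subgroup G)) h4 hcen)
    have hle : Nat.card (E.subgroupOf (S : Subgroup G)) ≤ 2 * 2 := by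
      have h1 : Z.relIndex (E.subgroupOf (S : Subgroup G)) ≤ 2 :=
        (relIndex_le_of_le_right le_top (by simpa using index_ne_zero_of_finite)).trans
          (le_of_eq (by rw [relIndex_top_right, hZi]))
      have h2 : Nat.card ↥(E.subgroupOf (S : Subgroup G) ⊓ Z) ≤ 2 := by
        haveI : IsCyclic ↥(E.subgroupOf (S : Subgroup G) ⊓ Z) :=
          isCyclic_of_injective (inclusion (inf_le_right : _ ⊓ Z ≤ Z)) (inclusion_injective _)
        obtain ⟨g, hg⟩ := IsCyclic.exists_ofOrder_eq_natCard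
          (α := ↥(E.subgroupOf (S : Subgroup G) ⊓ Z))
        rw [← hg]
        refine Nat.le_of_dvd two_pos (orderOf_dvd_of_pow_eq_one ?_)
        exact Subtype.ext (Subtype.ext (hE.2 _ g.2.1))
      have e : Nat.card ↥(E.subgroupOf (S : Subgroup G) ⊓ Z) *
          Z.relIndex (E.subgroupOf (S : Subgroup G)) = Nat.card (E.subgroupOf (S : Subgroup G)) := by
        rw [← inf_relIndex_left]
        exact relIndex_bot_left (E.subgroupOf (S : Subgroup G) ⊓ Z) ▸
          relIndex_bot_left (E.subgroupOf (S : Subgroup G)) ▸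
          relIndex_mul_relIndex ⊥ _ _ bot_le inf_le_left
      exact e ▸ Nat.mul_le_mul h2 h1
    rw [Nat.card_congr (subgroupOfEquivOfLe hES).toEquiv] at hle
    omega
  push Not at hsq
  obtain ⟨q, hqP, hq1⟩ := hsq
  -- `t` is conjugate into `C_S(V)`
  obtain ⟨g, hg⟩ : ∃ g : G, g * t * g⁻¹ ∈ fixer S V := by
    by_contra hno
    push Not at hno
    have hrel : (fixer S V).relIndex (S : Subgroup G) = 2 := by
      have h1 := h.relIndex_fixer
      have h2 : (fixer S V).relIndex (S : Subgroup G) ≠ 1 := fun e =>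
        htC (relIndex_eq_one.1 e ht)
      have h0 : (fixer S V).relIndex (S : Subgroup G) ≠ 0 := Subgroup.index_ne_zero_of_finite
      omega
    obtain ⟨N, hN, hN2, -⟩ := CfsgLib.Inv53.exists_index_two_notMem S (fixer S V) inf_le_left hrel
      le_rfl (fun y _ hy => by
        have h1 : orderOf y ≠ 1 := fun e => hy (orderOf_eq_one_iff.1 e ▸ one_mem _)
        have h0 := orderOf_pos y
        simp only [tsub_self, pow_zero]
        omega) (ho.trans (pow_one 2).symm) hno
    exact hind N hN hN2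
  obtain ⟨A, hA, hA8, hAS, htA⟩ := h.exists_A hg ((MulEquiv.orderOf_eq (MulAut.conj g) t).trans ho)
  set A' := A.map (MulAut.conj g⁻¹).toMonoidHom with hA'
  have hA'e : IsElementaryAbelian 2 A' := isElementaryAbelian_map hA _
  have htA' : t ∈ A' := ⟨_, htA, by simp [mul_assoc]⟩
  have hA'C : A' ≤ C := fun a ha =>
    mem_centralizer_singleton_iff.2 (commute_of_elab hA'e ha htA')
  obtain ⟨R, hR⟩ := ((S.2.to_le inf_le_left : IsPGroup 2 P).comap_subtype :
    IsPGroup 2 (P.subgroupOf C)).exists_le_sylow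
  set Rm := (R : Subgroup C).map C.subtype with hRm
  have hPR : P ≤ Rm := fun a ha => ⟨⟨a, ha.2⟩, hR ha, rfl⟩
  by_cases hle : Rm ≤ P
  · -- a conjugate of `A'` lies in `C_S(t)`
    obtain ⟨T', hT'⟩ := ((isPGroup_of_elab hA'e).comap_subtype :
      IsPGroup 2 (A'.subgroupOf C)).exists_le_sylow
    obtain ⟨c, hc⟩ := MulAction.exists_smul_eq C T' R
    refine ⟨A'.map (MulAut.conj (c : G)).toMonoidHom, isElementaryAbelian_map hA'e _, ?_, ?_, ?_⟩
    · rw [card_map_of_injective (MulAut.conj (c : G)).injective, hA',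
        card_map_of_injective (MulAut.conj g⁻¹).injective]
      exact hA8
    · rintro _ ⟨a, ha, rfl⟩
      have hmem : c * ⟨a, hA'C ha⟩ * c⁻¹ ∈ (R : Subgroup C) := by
        rw [← hc]
        exact ⟨⟨a, hA'C ha⟩, hT' ha, rfl⟩
      exact (hle ⟨_, hmem, rfl⟩).1
    · refine ⟨t, htA', ?_⟩
      show (c : G) * t * (c : G)⁻¹ = t
      exact mul_inv_eq_iff_eq_mul.2 (mem_centralizer_singleton_iff.1 c.2)
  exfalso
  obtain ⟨n, hnR, hnP, hnN⟩ := CfsgLib.EPPOSeven.exists_normalizing_notMem (R.2.map C.subtype) hPR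
    (fun e => hle e.ge)
  -- `n` fixes `z`
  have hq2 : q * q ∈ P ⊓ fixer S V := ⟨mul_mem hqP hqP, h.sq_mem_fixer hqP.1⟩
  obtain ⟨k, hk⟩ := IsPGroup.iff_orderOf.1 (S.2 : IsPGroup 2 (S : Subgroup G))
    ⟨q * q, mul_mem hqP.1 hqP.1⟩
  rw [orderOf_mk] at hk
  rcases k with _ | k
  · exact hq1 (orderOf_eq_one_iff.1 (by simpa using hk))
  have hw : (q * q) ^ 2 ^ k = z := by
    refine hu _ (pow_mem hq2.1 _) (pow_mem hq2.2 _) ?_ fun e => ?_
    · rw [← pow_two, ← pow_mul, ← pow_succ, ← hk, pow_orderOf_eq_one]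
    · have := Nat.le_of_dvd (pow_pos two_pos k) (orderOf_dvd_of_pow_eq_one e)
      rw [hk, pow_succ] at this
      nlinarith [pow_pos (two_pos : (0 : ℕ) < 2) k]
  set q' := n * q * n⁻¹ with hq'
  have hq'P : q' ∈ P := (mem_normalizer_iff.1 hnN q).1 hqP
  have hnz : n * z * n⁻¹ = z := by
    have e : n * z * n⁻¹ = (q' * q') ^ 2 ^ k := by
      rw [← hw, ← conj_pow, hq']
      congr 1
      group
    have hne : n * z * n⁻¹ ≠ 1 := fun e => ne_one_of_invol hz (by simpa using e)
    rw [e] at hne ⊢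
    refine hu _ (pow_mem (mul_mem hq'P hq'P) _) (pow_mem (h.sq_mem_fixer hq'P.1) _) ?_ hne
    rw [← e]
    calc n * z * n⁻¹ * (n * z * n⁻¹) = n * (z * z) * n⁻¹ := by group
      _ = 1 := by rw [mul_self_of_invol hz, mul_one, mul_inv_cancel]
  have hnM : n ∈ normalizer (cl V : Set G) := h.centralizer_central hzS hz hzc
    (mem_centralizer_singleton_iff.2 (mul_inv_eq_iff_eq_mul.1 hnz))
  have hX := hmax (P ⊔ zpowers n) ((R.2.map C.subtype).to_le (sup_le hPR (zpowers_le.2 hnR)))
    ((sup_le hPR (zpowers_le.2 hnR)).trans (map_subtype_le _))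
    (sup_le (inf_le_left.trans h.sylow_le_normalizer) (zpowers_le.2 hnM)) le_sup_left
    (mem_sup_right (mem_zpowers n))
  exact hnP ⟨hX, map_subtype_le _ hnR⟩

/-- An involution of `N(W)` lies in an elementary abelian subgroup of order eight of `N(W)`. -/
theorem NoEight.exists_eight (h : NoEight S V) (hind : ∀ N : Subgroup G, N.Normal → N.index ≠ 2)
    {t : G} (ht : t ∈ normalizer (cl V : Set G)) (ho : orderOf t = 2) :
    ∃ A : Subgroup G, IsElementaryAbelian 2 A ∧ 8 ≤ Nat.card A ∧
      A ≤ normalizer (cl V : Set G) ∧ t ∈ A ∧ th t ≤ cl V := by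
  have : Fact (Nat.Prime 2) := ⟨Nat.prime_two⟩
  set M := normalizer (cl V : Set G)
  set D := centralizer ({t} : Set G) ⊓ M
  have htD : t ∈ D := ⟨mem_centralizer_singleton_iff.2 rfl, ht⟩
  obtain ⟨P', hP'⟩ := ((CfsgLib.ZCGroup.isPGroup_zpowers_of_orderOf ho).comap_subtype :
    IsPGroup 2 ((zpowers t).subgroupOf D)).exists_le_sylow
  obtain ⟨m, hm, hmS⟩ := h.exists_conj_le (F := (P' : Subgroup D).map D.subtype) (P'.2.map _)
    ((map_subtype_le _).trans inf_le_right)
  set t' := m * t * m⁻¹ with ht'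
  have ho' : orderOf t' = 2 := (MulEquiv.orderOf_eq (MulAut.conj m) t).trans ho
  have ht'S : t' ∈ (S : Subgroup G) :=
    hmS ⟨t, ⟨⟨t, htD⟩, hP' (mem_zpowers t : t ∈ zpowers t), rfl⟩, rfl⟩
  obtain ⟨A, hA, h8, hAS, htA⟩ := h.exists_A_of_max hind ht'S ho' fun X hX hXC hXM hPX => by
    have hXD : X.map (MulAut.conj m⁻¹).toMonoidHom ≤ D := by
      rintro _ ⟨x, hx, rfl⟩
      refine ⟨?_, by simpa [mul_assoc] using mul_mem (mul_mem (inv_mem hm) (hXM hx)) hm⟩
      show m⁻¹ * x * m⁻¹⁻¹ ∈ centralizer ({t} : Set G)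
      rw [← conj_mem_centralizer (n := m), ← ht']
      simpa [mul_assoc] using hXC hx
    have hle : (P' : Subgroup D) ≤ (X.map (MulAut.conj m⁻¹).toMonoidHom).subgroupOf D := by
      intro p hp
      refine ⟨m * p * m⁻¹, hPX ⟨hmS ⟨p, ⟨p, hp, rfl⟩, rfl⟩, ?_⟩, by simp [mul_assoc]⟩
      exact conj_mem_centralizer.2 p.2.1

    have heq := P'.3 ((hX.map _).comap_subtype) hle
    intro x hx
    have hmem : (⟨m⁻¹ * x * m⁻¹⁻¹, hXD ⟨x, hx, rfl⟩⟩ : D) ∈ (P' : Subgroup D) :=
      heq.le ⟨x, hx, rfl⟩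
    simpa [mul_assoc] using hmS ⟨_, ⟨_, hmem, rfl⟩, rfl⟩
  have hA' : IsElementaryAbelian 2 (A.map (MulAut.conj m⁻¹).toMonoidHom) := isElementaryAbelian_map hA _
  have h8' : 8 ≤ Nat.card (A.map (MulAut.conj m⁻¹).toMonoidHom) := by
    rw [card_map_of_injective (MulAut.conj m⁻¹).injective]; exact h8
  have hA'M : A.map (MulAut.conj m⁻¹).toMonoidHom ≤ M := by
    rintro _ ⟨x, hx, rfl⟩
    simpa [mul_assoc] using mul_mem (mul_mem (inv_mem hm) (h.sylow_le_normalizer (hAS hx))) hm
  have htA' : t ∈ A.map (MulAut.conj m⁻¹).toMonoidHom := ⟨_, htA, by simp [ht', mul_assoc]⟩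
  refine ⟨_, hA', h8', hA'M, htA', ?_⟩
  rw [← h.cl_eq hA' h8' hA'M]
  exact le_signalizerClosure htA' (ne_one_of_invol ho)

/-- **`N(W)` contains the centralisers of its involutions.** -/
theorem NoEight.centralizer_le (h : NoEight S V) (hind : ∀ N : Subgroup G, N.Normal → N.index ≠ 2)
    {t : G} (ht : t ∈ normalizer (cl V : Set G)) (ho : orderOf t = 2) :
    centralizer ({t} : Set G) ≤ normalizer (cl V : Set G) := by
  classical
  have : Fact (Nat.Prime 2) := ⟨Nat.prime_two⟩
  set M := normalizer (cl V : Set G) with hM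
  set C := centralizer ({t} : Set G) with hC
  obtain ⟨A, hA, h8, hAM, htA, hth⟩ := h.exists_eight hind ht ho
  have hAC : A ≤ C := fun a ha => mem_centralizer_singleton_iff.2 (commute_of_elab hA ha htA)
  obtain ⟨R, hR⟩ :=
    ((isPGroup_of_elab hA).comap_subtype : IsPGroup 2 (A.subgroupOf C)).exists_le_sylow
  set Rm := (R : Subgroup C).map C.subtype with hRm
  have hRp : IsPGroup 2 Rm := R.2.map _
  have hARm : A ≤ Rm := fun a ha => ⟨⟨a, hAC ha⟩, hR ha, rfl⟩
  have hRM : Rm ≤ M := by
    haveI := hRp.isNilpotent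
    refine subgroupOf_eq_top.1 (by_contra fun hne => ?_)
    obtain ⟨g, hg, hgM⟩ := SetLike.exists_of_lt
      (Group.normalizerCondition_of_isNilpotent (M.subgroupOf Rm) (lt_top_iff_ne_top.2 hne))
    refine hgM (mem_subgroupOf.2 (h.key hA h8 hAM (g := (g : G)) ?_))
    rintro _ ⟨a, ha, rfl⟩
    exact ((mem_normalizer_iff.1 hg (⟨a, hARm ha⟩ : Rm)).1 (mem_subgroupOf.2 (hAM ha)) :)
  obtain ⟨T, hT⟩ := CfsgLib.MaxNormalizer.exists_sylow_normal R (pPrimePCore 2 C)
  set π := QuotientGroup.mk' (pPrimeCore 2 C) with hπ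
  set Tc := (T : Subgroup (pPrimePCore 2 C)).map (pPrimePCore 2 C).subtype with hTc
  have hTR : Tc ≤ (R : Subgroup C) := by
    rintro _ ⟨x, hx, rfl⟩
    exact (hT x).1 hx
  have hTmem : ∀ x ∈ (R : Subgroup C), π x ∈ pCore 2 (C ⧸ pPrimeCore 2 C) → x ∈ Tc :=
    fun x hx hx' => ⟨⟨x, hx'⟩, (hT _).2 hx, rfl⟩
  -- the central involutions of `R` are central in `T`
  have hcent : ∀ c ∈ (R : Subgroup C), (∀ r ∈ (R : Subgroup C), r * c = c * r) → c ∈ Tc := by
    intro c hc hcc
    refine hTmem c hc (CfsgLib.Inv53.centralizer_pCore_le_quotient (h.constr t ho) ?_)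
    rw [mem_centralizer_iff, ← CfsgLib.PLocal.map_sylow_pPrimePCore T]
    rintro _ ⟨w, hw, rfl⟩
    rw [← map_mul, ← map_mul, hcc w (hTR hw)]
  have htC : t ∈ C := mem_centralizer_singleton_iff.2 rfl
  let tC : C := ⟨t, htC⟩
  have htR : tC ∈ (R : Subgroup C) := hR htA
  have htT : tC ∈ Tc := hcent tC htR fun r _ => Subtype.ext (mem_centralizer_singleton_iff.1 r.2)
  refine centralizer_le_of_normalizer hth T ?_
  rw [← hTc]
  by_cases hv : ∃ v ∈ Tc, v * v = 1 ∧ v ≠ 1 ∧ v ≠ tC ∧ ∀ w ∈ Tc, w * v = v * w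
  · -- the elementary central part of `T` has closure `W`
    obtain ⟨v, hvT, hv2, hv1, hvt, hvc⟩ := hv
    let Z : Subgroup C :=
      { carrier := {x | x ∈ Tc ∧ x * x = 1 ∧ ∀ w ∈ Tc, w * x = x * w}
        one_mem' := ⟨one_mem _, one_mul 1, fun w _ => by simp⟩
        mul_mem' := fun {a b} ha hb => ⟨mul_mem ha.1 hb.1, by
          rw [show a * b * (a * b) = a * (b * a) * b by group, ha.2.2 b hb.1, ← mul_assoc a a b,
            ha.2.1, one_mul, hb.2.1], fun w hw => by
          rw [← mul_assoc, ha.2.2 w hw, mul_assoc, hb.2.2 w hw, mul_assoc]⟩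
        inv_mem' := fun {a} ha => by
          rw [inv_eq_of_mul_eq_one_left ha.2.1]; exact ha }
    have hZe : IsElementaryAbelian 2 Z := ⟨⟨⟨fun a b => Subtype.ext (b.2.2.2 a a.2.1)⟩⟩,
      fun a ha => by rw [sq]; exact ha.2.1⟩
    have hZN : normalizer (Tc : Set C) ≤ normalizer (Z : Set C) := by
      refine le_normalizer_of_forall_conj fun n hn x hx =>
        ⟨(mem_normalizer_iff.1 hn x).1 hx.1, ?_, fun w hw => ?_⟩
      · calc n * x * n⁻¹ * (n * x * n⁻¹) = n * (x * x) * n⁻¹ := by group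
          _ = 1 := by rw [hx.2.1, mul_one, mul_inv_cancel]
      · have hw' : n⁻¹ * w * n ∈ Tc := by
          simpa using (mem_normalizer_iff.1 (inv_mem hn) w).1 hw
        calc w * (n * x * n⁻¹) = n * (n⁻¹ * w * n * x) * n⁻¹ := by group
          _ = n * (x * (n⁻¹ * w * n)) * n⁻¹ := by rw [hx.2.2 _ hw']
          _ = n * x * n⁻¹ * w := by group
    have hRT : (R : Subgroup C) ≤ normalizer (Tc : Set C) := by
      refine le_normalizer_of_forall_conj fun r hr x hx => hTmem _ ?_ ?_
      · exact mul_mem (mul_mem hr (hTR hx)) (inv_mem hr)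
      · obtain ⟨x', hx', rfl⟩ := hx
        rw [map_mul, map_mul, map_inv]
        exact (inferInstance : (pCore 2 (C ⧸ pPrimeCore 2 C)).Normal).conj_mem _ x'.2 _
    -- a normal four-group `⟨t, v'⟩`
    haveI hzn : (zpowers tC).Normal := ⟨fun x hx g => by
      obtain ⟨i, rfl⟩ := mem_zpowers_iff.1 hx
      rw [← conj_zpow, show g * tC * g⁻¹ = tC from mul_inv_eq_iff_eq_mul.2
        (Subtype.ext (mem_centralizer_singleton_iff.1 g.2))]
      exact zpow_mem (mem_zpowers _) _⟩
    let σ := QuotientGroup.mk' (zpowers tC)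
    have hne : Z.map σ ≠ ⊥ := by
      intro hbot
      have hmem : σ v ∈ Z.map σ := ⟨v, ⟨hvT, hv2, hvc⟩, rfl⟩
      rw [hbot, mem_bot] at hmem
      have : v ∈ zpowers tC := (QuotientGroup.eq_one_iff v).1 hmem
      obtain ⟨i, rfl⟩ := mem_zpowers_iff.1 this
      have ht2 : tC * tC = 1 := Subtype.ext (mul_self_of_invol ho)
      rcases Int.even_or_odd' i with ⟨j, rfl | rfl⟩
      · exact hv1 (by rw [zpow_mul, zpow_ofNat, sq, ht2, one_zpow])
      · exact hvt (by rw [zpow_add, zpow_mul, zpow_ofNat, sq, ht2, one_zpow, one_mul, zpow_one])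
    obtain ⟨_, ⟨v', hv', rfl⟩, hv'1, hv'c⟩ := CfsgLib.CharPLocal.exists_ne_one_central_of_normal
      (T := (R : Subgroup C).map σ) (U := Z.map σ) (R.2.map σ)
      (Subgroup.map_mono fun x hx => hTR hx.1)
      ((Subgroup.map_mono (hRT.trans hZN)).trans (le_normalizer_map σ)) hne
    let ZG := Z.map C.subtype
    have hZG : IsElementaryAbelian 2 ZG := isElementaryAbelian_map hZe _
    have hZGM : ZG ≤ M := fun x hx => by
      obtain ⟨x, hx, rfl⟩ := hx
      exact hRM ⟨x, hTR hx.1, rfl⟩
    set v0 : G := ((v' : C) : G) with hv0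
    let F := zpowers t ⊔ zpowers v0
    have htZ : tC ∈ Z := ⟨htT, Subtype.ext (mul_self_of_invol ho),
      fun w _ => Subtype.ext (mem_centralizer_singleton_iff.1 w.2)⟩
    have hFZ : F ≤ ZG := sup_le (zpowers_le.2 ⟨tC, htZ, rfl⟩) (zpowers_le.2 ⟨v', hv', rfl⟩)
    have hFe : IsElementaryAbelian 2 F := elab_of_le_of_elab hZG hFZ
    have hv'1' : v' ∉ zpowers tC := fun e => hv'1 ((QuotientGroup.eq_one_iff v').2 e)
    have hF4 : 2 ^ 2 ≤ Nat.card F := card_ge_four_of (mem_sup_left (mem_zpowers t))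
      (mem_sup_right (mem_zpowers _)) (ne_one_of_invol ho)
      (fun e => hv'1' (by rw [show v' = 1 from Subtype.ext e]; exact one_mem _))
      (fun e => hv'1' (by rw [show v' = tC from Subtype.ext e.symm]; exact mem_zpowers _)) hFe
    set CA := A ⊓ centralizer ({v0} : Set G) with hCA
    have hCA4 : 2 ^ 2 ≤ Nat.card CA := by
      have hrel : ∀ a ∈ A, ∀ b ∈ A, a ∉ CA → b ∉ CA → a * b ∈ CA := by
        intro a ha b hb ha' hb'
        have key : ∀ x ∈ A, x ∉ CA → x * v0 * x⁻¹ = v0 * t := by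
          intro x hx hx'
          have hxR : (⟨x, hAC hx⟩ : C) ∈ (R : Subgroup C) := hR hx
          have h1 := hv'c (σ ⟨x, hAC hx⟩) (mem_map_of_mem σ hxR)
          rw [← map_mul, ← map_mul] at h1
          obtain ⟨i, hi⟩ := mem_zpowers_iff.1 (QuotientGroup.eq.1 h1.symm)
          have hiG : t ^ i = (v0 * x)⁻¹ * (x * v0) := by
            simpa [tC] using congrArg (fun w : C => (w : G)) hi
          rcases Int.even_or_odd' i with ⟨j, rfl | rfl⟩
          · refine absurd ⟨hx, mem_centralizer_singleton_iff.2 ?_⟩ hx'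
            rw [zpow_mul, zpow_ofNat, sq, mul_self_of_invol ho, one_zpow, eq_comm,
              inv_mul_eq_one] at hiG
            exact hiG.symm
          · rw [zpow_add, zpow_mul, zpow_ofNat, sq, mul_self_of_invol ho, one_zpow, one_mul,
              zpow_one] at hiG
            have hxt : x * t = t * x := commute_of_elab hA hx htA
            calc x * v0 * x⁻¹ = (v0 * x) * ((v0 * x)⁻¹ * (x * v0)) * x⁻¹ := by group
              _ = v0 * (x * t) * x⁻¹ := by rw [← hiG]; group
              _ = v0 * t := by rw [hxt]; group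
        refine ⟨mul_mem ha hb, mem_centralizer_singleton_iff.2 ?_⟩
        have e : a * b * v0 * (a * b)⁻¹ = v0 := by
          calc a * b * v0 * (a * b)⁻¹ = a * (b * v0 * b⁻¹) * a⁻¹ := by group
            _ = (a * v0 * a⁻¹) * (a * t * a⁻¹) := by rw [key b hb hb']; group
            _ = v0 * t * t := by
              rw [key a ha ha', show a * t * a⁻¹ = t from
                mul_inv_eq_iff_eq_mul.2 (commute_of_elab hA ha htA)]
            _ = v0 := by rw [mul_assoc, mul_self_of_invol ho, mul_one]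
        exact mul_inv_eq_iff_eq_mul.1 e
      have hcard : Nat.card A ≤ Nat.card CA * 2 := by
        have hidx : (CA.subgroupOf A).index ≤ 2 := by
          by_cases hall : ∀ a ∈ A, a ∈ CA
          · rw [subgroupOf_eq_top.2 hall, index_top]; norm_num
          · push Not at hall
            obtain ⟨a₀, ha₀, ha₀'⟩ := hall
            refine le_of_eq (index_eq_two_iff.2 ⟨⟨a₀, ha₀⟩, fun b => ?_⟩)
            simp only [mem_subgroupOf, Subgroup.coe_mul]
            by_cases hb : (b : G) ∈ CA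
            · exact Or.inr ⟨hb, fun hh => ha₀' ((mul_mem_cancel_left hb).1 hh)⟩
            · exact Or.inl ⟨hrel _ b.2 _ ha₀ hb ha₀', hb⟩
        rw [← (CA.subgroupOf A).card_mul_index,
          Nat.card_congr (subgroupOfEquivOfLe (inf_le_left : CA ≤ A)).toEquiv]
        exact Nat.mul_le_mul_left _ hidx
      omega
    have hFC : IsElementaryAbelian 2 (F ⊔ CA : Subgroup G) :=
      CfsgLib.SolvSig.isElementaryAbelian_sup hFe (elab_of_le_of_elab hA inf_le_left) (by
        intro a ha
        rw [mem_centralizer_iff]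
        intro w hw
        have hle : F ≤ centralizer ({a} : Set G) := sup_le
          (zpowers_le.2 (mem_centralizer_singleton_iff.2 (commute_of_elab hA htA ha.1)))
          (zpowers_le.2 (mem_centralizer_singleton_iff.2
            (mem_centralizer_singleton_iff.1 ha.2).symm))
        exact mem_centralizer_singleton_iff.1 (hle hw))
    have hclF : cl F = cl V := by
      by_cases hF8 : 8 ≤ Nat.card ↥(F ⊔ CA)
      · rw [← cl_eq_of_le h.constr hFC hF8 hF4 le_sup_left]
        exact h.cl_eq hFC hF8 (sup_le (hFZ.trans hZGM) (inf_le_left.trans hAM))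
      · have hle4 : Nat.card ↥(F ⊔ CA) ≤ 4 := by
          by_contra hlt
          exact hF8 (pow_succ_le_card hFC (k := 2) (by omega))
        have e1 : F = F ⊔ CA := eq_of_le_of_card_ge le_sup_left (hle4.trans hF4)
        have e2 : CA = F ⊔ CA := eq_of_le_of_card_ge le_sup_right (hle4.trans hCA4)
        rw [e1.trans e2.symm, ← cl_eq_of_le h.constr hA h8 hCA4 inf_le_left]
        exact h.cl_eq hA h8 hAM
    have hclZ : cl ZG = cl V := by
      by_cases hZ8 : 8 ≤ Nat.card ZG
      · exact h.cl_eq hZG hZ8 hZGM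
      · have hle4 : Nat.card ZG ≤ 4 := by
          by_contra hlt
          exact hZ8 (pow_succ_le_card hZG (k := 2) (by omega))
        rw [← eq_of_le_of_card_ge hFZ (hle4.trans hF4), hclF]
    intro n hn
    rw [mem_normalizer_iff_map_conj_eq]
    have hnZ : ZG.map (MulAut.conj (n : G)).toMonoidHom = ZG := by
      refine eq_of_le_of_card_ge ?_ (card_map_of_injective (MulAut.conj (n : G)).injective).ge
      rintro _ ⟨_, ⟨x, hx, rfl⟩, rfl⟩
      exact ⟨n * x * n⁻¹, (mem_normalizer_iff.1 (hZN hn) x).1 hx, rfl⟩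
    rw [← hclZ]
    exact (cl_map ZG (n : G)).trans (congrArg cl hnZ)
  · -- `t` is the only central involution of `R`, so `R` is a Sylow subgroup of `G`
    push Not at hv
    have huniq : ∀ c ∈ (R : Subgroup C), c * c = 1 → c ≠ 1 →
        (∀ r ∈ (R : Subgroup C), r * c = c * r) → c = tC := by
      intro c hc hc2 hc1 hcc
      by_contra hne
      obtain ⟨w, hw, hne'⟩ := hv c (hcent c hc hcc) hc2 hc1 hne
      exact hne' (hcc w (hTR hw))
    obtain ⟨m, hm, hmS⟩ := h.exists_conj_le hRp hRM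
    set S' := (S : Subgroup G).map (MulAut.conj m⁻¹).toMonoidHom with hS'
    have hRS' : Rm ≤ S' := fun x hx => ⟨_, hmS ⟨x, hx, rfl⟩, by simp [mul_assoc]⟩
    have htS' : t ∈ S' := hRS' ⟨tC, htR, rfl⟩
    have hRc : ∀ x ∈ Rm, x * t = t * x := fun x hx => by
      obtain ⟨y, -, rfl⟩ := hx
      exact mem_centralizer_singleton_iff.1 y.2
    have hS'R : S' ≤ Rm := by
      by_contra hne
      obtain ⟨n, hnS, hnR, hnN⟩ := CfsgLib.EPPOSeven.exists_normalizing_notMem
        (S.2.map _ : IsPGroup 2 S') hRS' (fun e => hne e.ge)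
      have hnt : n * t * n⁻¹ = t := by
        obtain ⟨y, hy, hy'⟩ := (mem_normalizer_iff.1 hnN t).1 ⟨tC, htR, rfl⟩
        rw [← hy']
        refine congrArg Subtype.val (huniq y hy (Subtype.ext ?_) (fun e => ?_) fun r hr => Subtype.ext ?_)
        · show (y : G) * y = 1
          rw [show (y : G) = n * t * n⁻¹ from hy']
          calc n * t * n⁻¹ * (n * t * n⁻¹) = n * (t * t) * n⁻¹ := by group
            _ = 1 := by rw [mul_self_of_invol ho, mul_one, mul_inv_cancel]
        · rw [e] at hy'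
          exact ne_one_of_invol ho (by simpa [eq_comm] using hy')
        · show (r : G) * y = y * r
          rw [show (y : G) = n * t * n⁻¹ from hy']
          have hr' : n⁻¹ * r * n ∈ Rm := by
            simpa using (mem_normalizer_iff.1 (inv_mem hnN) (r : G)).1 ⟨r, hr, rfl⟩
          calc (r : G) * (n * t * n⁻¹) = n * (n⁻¹ * r * n * t) * n⁻¹ := by group
            _ = n * (t * (n⁻¹ * r * n)) * n⁻¹ := by rw [hRc _ hr']
            _ = n * t * n⁻¹ * r := by group
      have hnC : n ∈ C := mem_centralizer_singleton_iff.2 (mul_inv_eq_iff_eq_mul.1 hnt)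
      have hX : IsPGroup 2 ↥(Rm ⊔ zpowers n) :=
        (S.2.map _ : IsPGroup 2 S').to_le (sup_le hRS' (zpowers_le.2 hnS))
      have hle : (R : Subgroup C) ≤ (Rm ⊔ zpowers n).subgroupOf C :=
        fun x hx => mem_sup_left (mem_map_of_mem C.subtype hx)
      have heq := R.3 hX.comap_subtype hle
      exact hnR ⟨⟨n, hnC⟩, heq.le (mem_sup_right (mem_zpowers n) : n ∈ Rm ⊔ zpowers n), rfl⟩
    have hc' : ∀ s ∈ (S : Subgroup G), s * (m * t * m⁻¹) = m * t * m⁻¹ * s := by
      intro s hs
      have h1 := hRc _ (hS'R ⟨s, hs, rfl⟩)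
      simp only [MulEquiv.coe_toMonoidHom, MulAut.conj_apply, inv_inv] at h1
      calc s * (m * t * m⁻¹) = m * (m⁻¹ * s * m * t) * m⁻¹ := by group
        _ = m * (t * (m⁻¹ * s * m)) * m⁻¹ := by rw [h1]
        _ = m * t * m⁻¹ * s := by group
    have hzS : m * t * m⁻¹ ∈ (S : Subgroup G) := hmS ⟨t, ⟨tC, htR, rfl⟩, rfl⟩
    have hzC := h.centralizer_central hzS ((MulEquiv.orderOf_eq (MulAut.conj m) t).trans ho) hc'
    intro n _
    have h1 : m * (n : G) * m⁻¹ ∈ M := hzC (conj_mem_centralizer.2 n.2)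
    simpa [mul_assoc] using mul_mem (mul_mem (inv_mem hm) h1) hm

/-- **All cores of involution centralisers are trivial.** -/
theorem NoEight.th_eq_bot (h : NoEight S V) (hB : CoreInCore G) (hO : oddCore G = ⊥)
    (hind : ∀ N : Subgroup G, N.Normal → N.index ≠ 2) {t : G} (ho : orderOf t = 2) :
    centralizerPPrimeCore 2 t = ⊥ := by
  classical
  have : Fact (Nat.Prime 2) := ⟨Nat.prime_two⟩
  set M := normalizer (cl V : Set G) with hM
  have hodd := h.cl_odd
  have hW : cl V = ⊥ := by
    refine le_bot_iff.1 (hO ▸ ?_)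
    by_cases htop : M = ⊤
    · haveI : (cl V).Normal := normalizer_eq_top_iff.1 htop
      exact CfsgLib.PLocal.le_pPrimeCore (Nat.coprime_two_right.2 hodd)
    have heven : Even (Nat.card M) := by
      have h4 := dvd_trans (card_dvd_of_le h.le_S) (card_dvd_of_le h.sylow_le_normalizer)
      rw [h.card_V] at h4
      exact even_iff_two_dvd.2 (dvd_trans ⟨2, rfl⟩ h4)
    have hse : IsStronglyEmbedded M := by
      rw [CfsgLib.Small.isStronglyEmbedded_iff_centralizer htop heven]
      refine ⟨fun s hs hos => h.centralizer_le hind hs hos, fun s hs r hr hos hor hconj => ?_⟩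
      obtain ⟨g, hg⟩ := isConj_iff.1 hconj
      obtain ⟨A, hA, h8, hAM, hsA, -⟩ := h.exists_eight hind hs hos
      refine ⟨g, h.key hA h8 hAM ?_, hg⟩
      refine le_trans ?_ (h.centralizer_le hind hr hor)
      rintro _ ⟨a, ha, rfl⟩
      rw [← hg]
      exact conj_mem_centralizer.2 (mem_centralizer_singleton_iff.2 (commute_of_elab hA ha hsA))
    refine le_trans ?_ (hB M hse)
    intro x hx
    refine ⟨⟨x, le_normalizer hx⟩, ?_, rfl⟩
    haveI : ((cl V).subgroupOf M).Normal := normal_in_normalizer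
    exact CfsgLib.PLocal.le_pPrimeCore (Nat.coprime_two_right.2
      (by rwa [Nat.card_congr (subgroupOfEquivOfLe (le_normalizer : cl V ≤ M)).toEquiv]))
      (mem_subgroupOf.2 hx)
  obtain ⟨Q, hQ⟩ := (CfsgLib.ZCGroup.isPGroup_zpowers_of_orderOf ho).exists_le_sylow
  obtain ⟨g, hg⟩ := MulAction.exists_smul_eq G Q S
  have hgt : g * t * g⁻¹ ∈ (S : Subgroup G) := hg ▸ ⟨t, hQ (mem_zpowers t), rfl⟩
  obtain ⟨-, -, -, -, -, hth⟩ := h.exists_eight hind (h.sylow_le_normalizer hgt)
    ((MulEquiv.orderOf_eq (MulAut.conj g) t).trans ho)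
  rw [hW, le_bot_iff, th_conj, Subgroup.map_eq_bot_iff_of_injective _ (MulAut.conj g).injective] at hth
  exact hth

end CfsgLib.CoreKillConn
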