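import Cfsg.Agent.CoreKillConn.Basic
import Cfsg.Agent.CoreKillConn.Kill
import Cfsg.Agent.Inv53.Constrained
import Cfsg.Agent.S1337

/-!
# Groups not of component type are of characteristic 2 type: connected Sylow, or no index two
-/

set_option autoImplicit false

namespace CfsgLib.CoreKillConn

open Cfsg Subgroup
open CfsgLib.CoreKill63

variable {G : Type*} [Group G] [Finite G]

omit [Finite G] in
theorem no_component (hc : ¬ IsComponentType G) {t : G} (ht : orderOf t = 2)
    (K : Subgroup (↥(centralizer ({t} : Set G)) ⧸ pPrimeCore 2 ↥(centralizer ({t} : Set G)))) :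
    ¬ IsComponent K := fun hK => hc ⟨t, ht, ⟨K, hK.1, hK.2⟩⟩

/-- Centralisers of involutions in a group not of component type are 2-constrained. -/
theorem constr_of_not_componentType (hc : ¬ IsComponentType G) : Constr G := by
  have : Fact (Nat.Prime 2) := ⟨Nat.prime_two⟩
  intro t ht
  refine CfsgLib.PLocal.isPConstrained_iff.2 ?_
  exact CfsgLib.CharPLocal.centralizer_pCore_le_of_no_component
    (CfsgLib.PLocal.pPrimeCore_quotient_pPrimeCore_eq_bot _ _) (no_component hc ht)

/-- Trivial cores and no component type give characteristic 2 type. -/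
theorem charTwoType_of_cores (hc : ¬ IsComponentType G) (heven : Even (Nat.card G))
    (h : ∀ t : G, orderOf t = 2 → oddCore ↥(centralizer ({t} : Set G)) = ⊥) :
    IsCharacteristicTwoType G := by
  have : Fact (Nat.Prime 2) := ⟨Nat.prime_two⟩
  refine ⟨heven, fun T hT hTne => ?_⟩
  rw [IsOfCharacteristicTwo, ← CfsgLib.CharPLocal.isCharP_iff_type]
  refine CfsgLib.CharPLocal.isCharP_normalizer_two hT hTne fun x hx => ?_
  rw [CfsgLib.CharPLocal.isCharP_iff_type]
  exact CfsgLib.CharPLocal.centralizer_pCore_le_of_no_component (h x hx)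
    (CfsgLib.CharPLocal.not_isComponent_of_pPrimeCore_eq_bot (h x hx) (no_component hc hx))

/-- S0504 from the core property of strongly embedded subgroups. -/
theorem charTwoType_of_connected (hB : CoreInCore G) (h3 : ¬ PRankLE 2 2 G) (hO : oddCore G = ⊥)
    (hc : ¬ IsComponentType G) (S : Sylow 2 G) (hS : IsFourConnected (S : Subgroup G)) :
    IsCharacteristicTwoType G := by
  have : Fact (Nat.Prime 2) := ⟨Nat.prime_two⟩
  unfold PRankLE at h3
  push Not at h3
  obtain ⟨A, hA, hexp, hlt⟩ := h3
  have hAe : IsElementaryAbelian 2 A := ⟨hA, hexp⟩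
  obtain ⟨T, hT⟩ := (CfsgLib.Transitivity.isPGroup_of_elab hAe).exists_le_sylow
  obtain ⟨g, hg⟩ := MulAction.exists_smul_eq G T S
  have hE := CfsgLib.Transitivity.isElementaryAbelian_map hAe (MulAut.conj g).toMonoidHom
  have hES : A.map (MulAut.conj g).toMonoidHom ≤ (S : Subgroup G) := hg ▸ Subgroup.map_mono hT
  have h8 : 8 ≤ Nat.card ↥(A.map (MulAut.conj g).toMonoidHom) := by
    rw [card_map_of_injective (MulAut.conj g).injective]
    exact CfsgLib.SolvSig.pow_succ_le_card hAe hlt
  have hset : Setting S (A.map (MulAut.conj g).toMonoidHom) :=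
    ⟨constr_of_not_componentType hc, hE, h8, hES, hS⟩
  refine charTwoType_of_cores hc ?_ fun t ht => ?_
  · obtain ⟨n, hn⟩ := (CfsgLib.Transitivity.isPGroup_of_elab hAe).exists_card_eq
    rw [hn] at hlt
    rcases n with _ | n
    · simp at hlt
    exact even_iff_two_dvd.2 ((dvd_pow_self 2 n.succ_ne_zero).trans (hn ▸ card_subgroup_dvd_card A))
  · exact (Subgroup.map_eq_bot_iff_of_injective _ (subtype_injective _)).1
      (hset.th_eq_bot hB hO ht)

/-- Cores vanish without component type and without index two. -/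
theorem cores_trivial_of_index (hB : CoreInCore G) (hO : oddCore G = ⊥) (hc : ¬ IsComponentType G)
    (hind : ∀ N : Subgroup G, N.Normal → N.index ≠ 2) (h3 : ¬ PRankLE 2 2 G) (t : G)
    (ht : orderOf t = 2) : oddCore ↥(centralizer ({t} : Set G)) = ⊥ := by
  classical
  have : Fact (Nat.Prime 2) := ⟨Nat.prime_two⟩
  unfold PRankLE at h3
  push Not at h3
  obtain ⟨A, hA, hexp, hlt⟩ := h3
  have hAe : IsElementaryAbelian 2 A := ⟨hA, hexp⟩
  obtain ⟨S, hS⟩ := (CfsgLib.Transitivity.isPGroup_of_elab hAe).exists_le_sylow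
  have h8 : 8 ≤ Nat.card A := CfsgLib.SolvSig.pow_succ_le_card hAe hlt
  refine (Subgroup.map_eq_bot_iff_of_injective _ (subtype_injective _)).1 ?_
  by_cases hbig : ∃ B : Subgroup G, B ≤ (S : Subgroup G) ∧
      (S : Subgroup G) ≤ normalizer (B : Set G) ∧ IsElementaryAbelian 2 B ∧ 8 ≤ Nat.card B
  · obtain ⟨B, hBS, hBn, hBe, hB8⟩ := hbig
    exact CoreKill63.Setting.th_eq_bot
      (⟨constr_of_not_componentType hc, hBe, hB8, hBS, hBn⟩ : CoreKill63.Setting S B) hB hO ht
  · push Not at hbig
    obtain ⟨U, hUn, hU, hU4⟩ := Cfsg.Agent.S1337.exists_normal_sq (P := ↥(S : Subgroup G)) S.2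
      (CfsgLib.SolvSig.not_pRankLE_iff.2 ⟨A, hS, hAe, hlt⟩)
    have := hUn
    have hV4 : IsKleinFour (U.map (S : Subgroup G).subtype) := by
      refine CfsgLib.Classification.isKleinFour_map _ (subtype_injective _) ⟨hU4.trans (by norm_num), ?_⟩
      have : Nontrivial U := Finite.one_lt_card_iff_nontrivial.1 (by rw [hU4]; norm_num)
      rw [Monoid.exponent_eq_prime_iff Nat.prime_two]
      exact fun g hg => orderOf_eq_prime (Subtype.ext (hU.2 _ g.2)) hg
    have hset : NoEight S (U.map (S : Subgroup G).subtype) :=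
      ⟨constr_of_not_componentType hc, fun B hBS hBn hBe => by
        by_contra hlt'
        exact (hbig B hBS hBn hBe).not_ge
          (CfsgLib.SolvSig.pow_succ_le_card hBe (k := 2) (by omega)),
        ⟨A, hS, hAe, h8⟩, hV4, map_subtype_le U,
        fun s hs => le_normalizer_map (S : Subgroup G).subtype
          ⟨⟨s, hs⟩, (normalizer_eq_top (H := U)).ge (mem_top _), rfl⟩⟩
    exact hset.th_eq_bot hB hO hind ht

/-- S1296 from the core property of strongly embedded subgroups. -/
theorem dichotomy (hB : CoreInCore G) (heven : Even (Nat.card G))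
    (hind : ∀ N : Subgroup G, N.Normal → N.index ≠ 2) (hO : oddCore G = ⊥) :
    PRankLE 2 2 G ∨ IsComponentType G ∨ IsCharacteristicTwoType G := by
  by_cases h3 : PRankLE 2 2 G
  · exact Or.inl h3
  by_cases hc : IsComponentType G
  · exact Or.inr (Or.inl hc)
  exact Or.inr (Or.inr (charTwoType_of_cores hc heven (cores_trivial_of_index hB hO hc hind h3)))

end CfsgLib.CoreKillConn
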