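import Cfsg.Agent.CoreKill63.Main

/-!
# Involutions moved only by a central involution lie in the 2-core

In a constrained group with `O = 1`, let `f` be a central involution and `R` a Sylow 2-subgroup. An
element `y` all whose `R`-conjugates are in `{y, yf}` acts trivially on `O_2/⟨f⟩` and so lies in `O_2`.
-/

set_option autoImplicit false

namespace CfsgLib.CoreKillConn

open Cfsg Subgroup

variable {Q : Type*} [Group Q] [Finite Q]

/-- The elements stabilising the series `T ≥ ⟨f⟩`. -/
def stabilizing (T : Subgroup Q) (f : Q) (hf : f * f = 1) (hfc : ∀ x, x * f = f * x) : Subgroup Q where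
  carrier := {x | ∀ q ∈ T, x * q * x⁻¹ = q ∨ x * q * x⁻¹ = q * f}
  one_mem' := fun q _ => Or.inl (by simp)
  mul_mem' := by
    intro x y hx hy q hq
    have e : x * y * q * (x * y)⁻¹ = x * (y * q * y⁻¹) * x⁻¹ := by group
    rw [e]
    rcases hy q hq with h | h <;> rw [h]
    · exact hx q hq
    · have e2 : x * (q * f) * x⁻¹ = x * q * x⁻¹ * f := by
        calc x * (q * f) * x⁻¹ = x * q * (f * x⁻¹) := by group
          _ = x * q * x⁻¹ * f := by rw [← hfc x⁻¹]; group
      rw [e2]
      rcases hx q hq with h' | h' <;> rw [h']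
      · exact Or.inr rfl
      · exact Or.inl (by rw [mul_assoc, hf, mul_one])
  inv_mem' := by
    intro x hx q hq
    rcases hx q hq with h | h
    · left
      calc x⁻¹ * q * x⁻¹⁻¹ = x⁻¹ * (x * q * x⁻¹) * x⁻¹⁻¹ := by rw [h]
        _ = q := by group
    · right
      calc x⁻¹ * q * x⁻¹⁻¹ = x⁻¹ * (x * q * x⁻¹ * f) * x := by
            rw [h, mul_assoc q f f, hf, mul_one, inv_inv]
        _ = q * (x⁻¹ * f * x) := by group
        _ = q * f := by rw [mul_assoc x⁻¹ f x, ← hfc x, inv_mul_cancel_left]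

theorem mem_pCore_of_stable (hQ : centralizer (pCore 2 Q : Set Q) ≤ pCore 2 Q) (R : Sylow 2 Q)
    {f y : Q} (hf : f * f = 1) (hfc : ∀ x, x * f = f * x)
    (hy : ∀ r ∈ (R : Subgroup Q), r * y * r⁻¹ = y ∨ r * y * r⁻¹ = y * f) : y ∈ pCore 2 Q := by
  have : Fact (Nat.Prime 2) := ⟨Nat.prime_two⟩
  set T := pCore 2 Q with hT
  have hTn : T.Normal := inferInstance
  set K := stabilizing T f hf hfc with hK
  have hTR : T ≤ (R : Subgroup Q) := by
    have hsup : IsPGroup 2 ↥((R : Subgroup Q) ⊔ T) :=
      R.2.to_sup_of_normal_right (CfsgLib.PLocal.isPGroup_pCore 2 Q)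
    exact le_sup_right.trans (R.3 hsup le_sup_left).le
  have hKn : K.Normal := by
    refine ⟨fun x hx g q hq => ?_⟩
    have hq' : g⁻¹ * q * g ∈ T := by simpa using hTn.conj_mem q hq g⁻¹
    have e : g * x * g⁻¹ * q * (g * x * g⁻¹)⁻¹ = g * (x * (g⁻¹ * q * g) * x⁻¹) * g⁻¹ := by group
    rw [e]
    rcases hx _ hq' with h | h <;> rw [h]
    · exact Or.inl (by group)
    · refine Or.inr ?_
      calc g * (g⁻¹ * q * g * f) * g⁻¹ = q * (g * f * g⁻¹) := by group
        _ = q * f := by rw [hfc g, mul_inv_cancel_right]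
  have hKp : IsPGroup 2 K := by
    refine CfsgLib.Inv53.isPGroup_of_forall_coprime K fun x hx hxo => ?_
    have hodd : Odd (orderOf x) := Nat.coprime_two_right.1 hxo
    have hfix : x ∈ centralizer (T : Set Q) := by
      rw [mem_centralizer_iff]
      intro q hq
      rcases hx q hq with h | h
      · exact (mul_inv_eq_iff_eq_mul.1 h).symm
      · have key : ∀ k : ℕ, x ^ k * q * (x ^ k)⁻¹ = q * f ^ k := by
          intro k
          induction k with
          | zero => simp
          | succ k ih =>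
            have e : x ^ (k + 1) * q * (x ^ (k + 1))⁻¹ = x * (x ^ k * q * (x ^ k)⁻¹) * x⁻¹ := by
              rw [pow_succ']; group
            have e2 : x * (q * f ^ k) * x⁻¹ = x * q * x⁻¹ * f ^ k := by
              have hc : Commute (f ^ k) x⁻¹ := Commute.pow_left (hfc x⁻¹).symm k
              calc x * (q * f ^ k) * x⁻¹ = x * q * (f ^ k * x⁻¹) := by group
                _ = x * q * x⁻¹ * f ^ k := by rw [hc.eq]; group
            rw [e, ih, e2, h, pow_succ', mul_assoc]
        obtain ⟨j, hj⟩ := hodd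
        have h1 := key (orderOf x)
        rw [pow_orderOf_eq_one, hj, pow_succ, pow_mul, pow_two, hf, one_pow, one_mul, one_mul,
          inv_one, mul_one] at h1
        have hf1 : f = 1 := by simpa using h1
        rw [hf1, mul_one] at h
        exact (mul_inv_eq_iff_eq_mul.1 h).symm
    have hxT : x ∈ T := hQ hfix
    obtain ⟨i, hi⟩ := IsPGroup.iff_orderOf.1 (CfsgLib.PLocal.isPGroup_pCore 2 Q) ⟨x, hxT⟩
    rw [orderOf_mk] at hi
    rw [hi] at hxo
    rcases i with _ | i
    · exact orderOf_eq_one_iff.1 (by simpa using hi)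
    · exact absurd (Nat.coprime_two_right.1 hxo)
        (Nat.not_odd_iff_even.2 (Nat.even_pow.2 ⟨even_two, i.succ_ne_zero⟩))
  refine CfsgLib.PLocal.le_pCore hKp ?_
  intro q hq
  rcases hy q (hTR hq) with h | h
  · exact Or.inl (mul_inv_eq_iff_eq_mul.2 (mul_inv_eq_iff_eq_mul.1 h).symm)
  · refine Or.inr (mul_inv_eq_iff_eq_mul.2 ?_)
    have h1 : q * y = y * f * q := mul_inv_eq_iff_eq_mul.1 h
    calc y * q = y * (f * f) * q := by rw [hf, mul_one]
      _ = (y * f * q) * f := by rw [mul_assoc _ q f, hfc q]; group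
      _ = q * f * y := by rw [← h1, mul_assoc, mul_assoc, hfc y]

end CfsgLib.CoreKillConn
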