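import Cfsg.Agent.CoreKillConn.Closure
import Cfsg.Agent.MaxNormalizer.CentralCase

/-!
# The centraliser of a central involution of `S` lies in `N(W)`

If `n` centralises a central involution `y` and carries `V` into `N(W)`, then `n` normalises `W`: for
`e ∈ V^n` other than `y` the involution `y` lies in `O_{2',2}(C(e))`, so `W ∩ C(e) ≤ O(C(e))`.
-/

set_option autoImplicit false

namespace CfsgLib.CoreKillConn

open Cfsg Subgroup
open CfsgLib.SolvSig CfsgLib.Transitivity CfsgLib.CoreKill63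

variable {G : Type*} [Group G] [Finite G] {S : Sylow 2 G} {V : Subgroup G}

omit [Finite G] in
theorem conj_mem_centralizer {f n x : G} :
    n * x * n⁻¹ ∈ centralizer ({n * f * n⁻¹} : Set G) ↔ x ∈ centralizer ({f} : Set G) := by
  rw [mem_centralizer_singleton_iff, mem_centralizer_singleton_iff,
    show n * x * n⁻¹ * (n * f * n⁻¹) = n * (x * f) * n⁻¹ by group,
    show n * f * n⁻¹ * (n * x * n⁻¹) = n * (f * x) * n⁻¹ by group]
  simp

omit [Finite G] in
theorem eq_or_eq_mul_of_mem {f y u : G} (hV : IsKleinFour V) (hf : f ∈ V) (hy : y ∈ V)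
    (hu : u ∈ V) (hf1 : f ≠ 1) (hy1 : y ≠ 1) (hne : y ≠ f) :
    u = 1 ∨ u = f ∨ u = y ∨ u = y * f := by
  have := hV
  by_cases h1 : (⟨u, hu⟩ : V) = 1
  · exact Or.inl (congrArg Subtype.val h1)
  by_cases h2 : (⟨u, hu⟩ : V) = ⟨y, hy⟩
  · exact Or.inr (Or.inr (Or.inl (congrArg Subtype.val h2)))
  by_cases h3 : (⟨u, hu⟩ : V) = ⟨f, hf⟩
  · exact Or.inr (Or.inl (congrArg Subtype.val h3))
  refine Or.inr (Or.inr (Or.inr ?_))
  exact congrArg Subtype.val (IsKleinFour.eq_mul_of_ne_all (x := (⟨y, hy⟩ : V)) (y := ⟨f, hf⟩)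
    (fun e => hy1 (congrArg Subtype.val e)) (fun e => hf1 (congrArg Subtype.val e))
    (fun e => hne (congrArg Subtype.val e)) h1 h2 h3)

/-- In `C(f)`, an element all whose conjugates under a Sylow subgroup are `y` or `yf` lies in
`O_{2',2}`. -/
theorem mem_pPrimePCore_of_stable (hc : Constr G) {f : G} (hf : orderOf f = 2)
    (R : Sylow 2 (centralizer ({f} : Set G))) (y : centralizer ({f} : Set G))
    (hy : ∀ r ∈ (R : Subgroup (centralizer ({f} : Set G))),
      (r * y * r⁻¹ : G) = y ∨ (r * y * r⁻¹ : G) = y * f) :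
    y ∈ pPrimePCore 2 (centralizer ({f} : Set G)) := by
  have : Fact (Nat.Prime 2) := ⟨Nat.prime_two⟩
  have hfC : f ∈ centralizer ({f} : Set G) := mem_centralizer_singleton_iff.2 rfl
  let π := QuotientGroup.mk' (pPrimeCore 2 (centralizer ({f} : Set G)))
  show π y ∈ pCore 2 (_ ⧸ _)
  refine mem_pCore_of_stable (CfsgLib.Inv53.centralizer_pCore_le_quotient (hc f hf))
    (R.mapSurjective (f := π) (QuotientGroup.mk'_surjective _)) (f := π ⟨f, hfC⟩) ?_ ?_ ?_
  · rw [← map_mul, show (⟨f, hfC⟩ : centralizer ({f} : Set G)) * ⟨f, hfC⟩ = 1 from Subtype.ext (mul_self_of_invol hf),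
      map_one]
  · intro x
    obtain ⟨x, rfl⟩ := QuotientGroup.mk'_surjective _ x
    show π x * π ⟨f, hfC⟩ = π ⟨f, hfC⟩ * π x
    rw [← map_mul, ← map_mul]
    exact congrArg π (Subtype.ext (mem_centralizer_singleton_iff.1 x.2))
  · rintro _ ⟨r, hr, rfl⟩
    rcases hy r hr with h | h
    · exact Or.inl (by rw [← map_mul, ← map_inv, ← map_mul]; exact congrArg π (Subtype.ext h))
    · exact Or.inr (by rw [← map_mul, ← map_inv, ← map_mul, ← map_mul]; exact congrArg π (Subtype.ext h))

/-- The fixed points of `W` at an involution of an elementary group of order eight of `S`. -/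
theorem NoEight.cl_inf_centralizer (h : NoEight S V) {A : Subgroup G} (hA : IsElementaryAbelian 2 A)
    (h8 : 8 ≤ Nat.card A) (hAS : A ≤ (S : Subgroup G)) {a : G} (ha : a ∈ A) (ha1 : a ≠ 1) :
    cl V ⊓ centralizer ({a} : Set G) = th a := by
  have : Fact (Nat.Prime 2) := ⟨Nat.prime_two⟩
  rw [← (h.cl_eight hA h8 hAS).1]
  exact closure_inf_centralizer_eq hA h8
    (restrict_isSolvableSignalizerFunctor (fun a _ => th_props a) (fun a g _ => th_conj a g)
      (fun a b ha hb hab => th_bal h.constr ha.1 hb.1 hab) hA (not_pRankLE_of_card hA h8)) ha ha1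

/-- `V` and its conjugates in a larger Sylow subgroup of `C(f)`: the `R`-conjugates of `y`. -/
theorem NoEight.conj_eq (h : NoEight S V) {f y : G} (hfV : f ∈ V) (hyV : y ∈ V) (hf : orderOf f = 2)
    (hy : orderOf y = 2) (hne : y ≠ f) {R : Subgroup G} (hR : IsPGroup 2 R)
    (hRC : R ≤ centralizer ({f} : Set G)) (hCR : fixer S V ≤ R) {r : G} (hr : r ∈ R) :
    r * y * r⁻¹ = y ∨ r * y * r⁻¹ = y * f := by
  have : Fact (Nat.Prime 2) := ⟨Nat.prime_two⟩
  -- `C_S(V)` is normal in `R`
  have hidx : (fixer S V).relIndex R ≤ 2 := by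
    obtain ⟨T, hT⟩ := hR.exists_le_sylow
    have hcard : Nat.card R ≤ Nat.card (S : Subgroup G) :=
      (Subgroup.card_le_of_le hT).trans (le_of_eq (T.card_eq_multiplicity.trans S.card_eq_multiplicity.symm))
    have e1 : Nat.card (fixer S V) * (fixer S V).relIndex R = Nat.card R :=
      relIndex_bot_left (fixer S V) ▸ relIndex_bot_left R ▸
        relIndex_mul_relIndex ⊥ (fixer S V) R bot_le hCR
    have e2 : Nat.card (fixer S V) * (fixer S V).relIndex (S : Subgroup G) =
        Nat.card (S : Subgroup G) :=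
      relIndex_bot_left (fixer S V) ▸ relIndex_bot_left (S : Subgroup G) ▸
        relIndex_mul_relIndex ⊥ (fixer S V) (S : Subgroup G) bot_le inf_le_left
    have := Nat.mul_le_mul_left (Nat.card (fixer S V)) h.relIndex_fixer
    have hpos : 0 < Nat.card (fixer S V) := Nat.card_pos
    nlinarith
  have hn : R ≤ normalizer (fixer S V : Set G) := by
    refine (normal_subgroupOf_iff_le_normalizer hCR).1 ?_
    rcases Nat.lt_or_ge ((fixer S V).subgroupOf R).index 2 with h1 | h1
    · have h0 := Subgroup.index_ne_zero_of_finite (H := (fixer S V).subgroupOf R)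
      rw [index_eq_one.1 (show ((fixer S V).subgroupOf R).index = 1 by omega)]
      infer_instance
    · exact normal_of_index_eq_two (le_antisymm hidx h1)
  have hmem : r * y * r⁻¹ ∈ V := by
    refine h.mem_V ((mem_normalizer_iff.1 (hn hr) y).1 ⟨h.le_S hyV, ?_⟩) ?_ fun c hc => ?_
    · exact mem_centralizer_iff.2 fun v hv => commute_of_elab h.elab_V hv hyV
    · calc r * y * r⁻¹ * (r * y * r⁻¹) = r * (y * y) * r⁻¹ := by group
        _ = 1 := by rw [mul_self_of_invol hy, mul_one, mul_inv_cancel]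
    · have hc' : r⁻¹ * c * r ∈ fixer S V := by
        simpa using (mem_normalizer_iff.1 (hn (inv_mem hr)) c).1 hc
      calc c * (r * y * r⁻¹) = r * (r⁻¹ * c * r * y) * r⁻¹ := by group
        _ = r * (y * (r⁻¹ * c * r)) * r⁻¹ := by rw [← mem_centralizer_iff.1 hc'.2 y hyV]
        _ = r * y * r⁻¹ * c := by group
  rcases eq_or_eq_mul_of_mem h.four hfV hyV hmem (ne_one_of_invol hf) (ne_one_of_invol hy) hne with
    e | e | e | e
  · exact absurd (by simpa using e) (ne_one_of_invol hy)
  · refine absurd ?_ hne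
    have hrf : r * f * r⁻¹ = f := mul_inv_eq_iff_eq_mul.2 (mem_centralizer_singleton_iff.1 (hRC hr))
    exact mul_left_cancel (mul_right_cancel (e.trans hrf.symm))
  · exact Or.inl e
  · exact Or.inr e

/-- **An element of `C(y)` carrying `V` into `N(W)` normalises `W`.** -/
theorem NoEight.mem_of_twist (h : NoEight S V) {y n : G} (hyV : y ∈ V) (hy : orderOf y = 2)
    (hn : n * y = y * n)
    (hVn : V.map (MulAut.conj n).toMonoidHom ≤ normalizer (cl V : Set G)) :
    n ∈ normalizer (cl V : Set G) := by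
  classical
  have : Fact (Nat.Prime 2) := ⟨Nat.prime_two⟩
  obtain ⟨B, hB, h8, hBS, hVB⟩ := h.exists_eight_V
  set W := cl V with hW
  set V' := V.map (MulAut.conj n).toMonoidHom with hV'
  have hny : n * y * n⁻¹ = y := mul_inv_eq_iff_eq_mul.2 hn
  have hyV' : y ∈ V' := ⟨y, hyV, hny⟩
  have hyN : y ∈ normalizer (W : Set G) := h.sylow_le_normalizer (h.le_S hyV)
  rw [mem_normalizer_iff_map_conj_eq]
  refine (eq_of_le_of_card_ge ?_ (card_map_of_injective (MulAut.conj n).injective).le).symm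
  refine le_trans ?_ (cl_map V n).ge
  have hV'e : IsElementaryAbelian 2 V' := isElementaryAbelian_map h.elab_V _
  have := hV'e.1
  refine Coprime.le_of_forall_inf_centralizer_le (not_isCyclic_of_elab hV'e (by
    rw [hV', card_map_of_injective (MulAut.conj n).injective, h.card_V]; norm_num)) hVn
    (coprime_card_of_elab hV'e h.cl_odd.not_two_dvd_nat) fun e he he1 => ?_
  refine le_trans ?_ (le_signalizerClosure he he1)
  obtain ⟨f, hfV, hfe⟩ := he
  have hfe' : n * f * n⁻¹ = e := hfe
  have hf1 : f ≠ 1 := fun e1 => he1 (by rw [← hfe', e1, mul_one, mul_inv_cancel])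
  have hf : orderOf f = 2 := orderOf_eq_prime (h.elab_V.2 f hfV) hf1
  by_cases hey : e = y
  · rw [hey]
    exact (h.cl_inf_centralizer hB h8 hBS (hVB hyV) (ne_one_of_invol hy)).le
  have hfy : y ≠ f := fun e1 => hey (by rw [← hfe', ← e1, hny])
  set C := centralizer ({f} : Set G)
  have hfC : fixer S V ≤ C := fun x hx => mem_centralizer_singleton_iff.2
    (mem_centralizer_iff.1 hx.2 f hfV).symm
  obtain ⟨R, hR⟩ := ((S.2.to_le inf_le_left : IsPGroup 2 (fixer S V)).comap_subtype :
    IsPGroup 2 ((fixer S V).subgroupOf C)).exists_le_sylow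
  have hyfix : y ∈ fixer S V :=
    ⟨h.le_S hyV, mem_centralizer_iff.2 fun v hv => commute_of_elab h.elab_V hv hyV⟩
  have hyQ : (⟨y, hfC hyfix⟩ : C) ∈ pPrimePCore 2 C :=
    mem_pPrimePCore_of_stable h.constr hf R _ fun r hr =>
      h.conj_eq hfV hyV hf hy hfy (R := (R : Subgroup C).map C.subtype) (R.2.map _)
        (map_subtype_le _) (fun x hx => ⟨⟨x, hfC hx⟩, hR hx, rfl⟩) ⟨r, hr, rfl⟩
  rintro x ⟨hxW, hxe⟩
  -- `u = x⁻¹ y x y` is an odd element of `O_{2',2}(C(e))`
  have hyy := mul_self_of_invol hy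
  have hye : y ∈ centralizer ({e} : Set G) := mem_centralizer_singleton_iff.2
    (commute_of_elab hV'e hyV' ⟨f, hfV, hfe⟩)
  set u := x⁻¹ * (y * x * y) with hu
  have hyxy : y * x * y ∈ W := by
    have := (mem_normalizer_iff.1 hyN x).1 hxW
    rwa [inv_eq_of_mul_eq_one_left hyy] at this
  have huW : u ∈ W := mul_mem (inv_mem hxW) hyxy
  have hodd : Odd (orderOf u) := h.cl_odd.of_dvd_nat (Subgroup.orderOf_dvd_natCard W huW)
  have hxf : n⁻¹ * x * n ∈ C := by
    rw [← conj_mem_centralizer (n := n), hfe']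
    simpa [mul_assoc] using hxe
  have huth : u ∈ th e := by
    rw [← hfe', th_conj]
    refine ⟨n⁻¹ * u * n, ?_, by simp [mul_assoc]⟩
    let yC : C := ⟨y, hfC hyfix⟩
    let xC : C := ⟨n⁻¹ * x * n, hxf⟩
    let uC : C := xC⁻¹ * (yC * xC * yC)
    have hny' : n⁻¹ * y * n = y := by rw [mul_assoc, ← hn, inv_mul_cancel_left]
    have huC : (uC : G) = n⁻¹ * u * n := by
      show (n⁻¹ * x * n)⁻¹ * (y * (n⁻¹ * x * n) * y) = n⁻¹ * u * n
      conv_lhs => rw [← hny']
      simp only [hu]; group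
    rw [← huC]
    refine ⟨uC, ?_, rfl⟩
    have hmem : uC ∈ pPrimePCore 2 C := by
      have hn' : (pPrimePCore 2 C).Normal := inferInstance
      have h2 := hn'.conj_mem _ hyQ xC⁻¹
      rw [inv_inv] at h2
      have := mul_mem h2 hyQ
      simpa [uC, yC, mul_assoc] using this
    have hπ : QuotientGroup.mk' (pPrimeCore 2 C) uC = 1 := by
      obtain ⟨i, hi⟩ := IsPGroup.iff_orderOf.1 (CfsgLib.PLocal.isPGroup_pCore 2 _)
        ⟨_, (hmem : QuotientGroup.mk' (pPrimeCore 2 C) uC ∈ _)⟩
      rw [← Subgroup.orderOf_coe] at hi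
      have ho : orderOf uC = orderOf u := by
        rw [← Subgroup.orderOf_coe, huC]
        simpa using MulEquiv.orderOf_eq (MulAut.conj n⁻¹) u
      refine orderOf_eq_one_iff.1 (Nat.eq_one_of_dvd_coprimes (Nat.Coprime.pow_right i
        (Nat.coprime_two_right.2 hodd)) ?_ (hi ▸ dvd_rfl))
      exact ho ▸ orderOf_map_dvd _ uC
    exact (QuotientGroup.eq_one_iff uC).1 hπ
  obtain ⟨j, hj⟩ := hodd
  set v := u ^ (j + 1) with hv
  have hvv : v * v = u := by
    rw [hv, ← pow_add, show j + 1 + (j + 1) = 2 * j + 1 + 1 by ring, ← hj, pow_succ,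
      pow_orderOf_eq_one, one_mul]
  have hyu : y * u * y = u⁻¹ := by
    rw [hu]
    calc y * (x⁻¹ * (y * x * y)) * y = y * x⁻¹ * y * x * (y * y) := by group
      _ = (x⁻¹ * (y * x * y))⁻¹ := by
        rw [hyy, mul_one, mul_inv_rev, mul_inv_rev, mul_inv_rev, inv_inv,
          inv_eq_of_mul_eq_one_left hyy]
        group
  have hyv : y * v * y = v⁻¹ := by
    have key : ∀ k : ℕ, y * u ^ k * y = (u ^ k)⁻¹ := by
      intro k
      induction k with
      | zero => simpa using hyy
      | succ k ih =>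
        calc y * u ^ (k + 1) * y = (y * u ^ k * y) * (y * u * y) := by
              rw [pow_succ]
              simp only [mul_assoc]
              rw [← mul_assoc y y, hyy, one_mul]
          _ = (u ^ (k + 1))⁻¹ := by rw [ih, hyu, ← mul_inv_rev, ← pow_succ']
    exact key _
  have hvW : v ∈ W := pow_mem huW _
  have hvth : v ∈ th e := pow_mem huth _
  -- `x v` is fixed by `y`
  have hfix : x * v ∈ centralizer ({y} : Set G) := by
    rw [mem_centralizer_singleton_iff]
    have e1 : y * (x * v) * y = x * v := by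
      calc y * (x * v) * y = (y * x * y) * (y * v * y) := by
            simp only [mul_assoc]
            rw [← mul_assoc y y, hyy, one_mul]
        _ = x * u * v⁻¹ := by rw [hyv, hu]; group
        _ = x * v := by rw [← hvv]; group
    calc x * v * y = y * (x * v) * y * y := by rw [e1]
      _ = y * (x * v) := by rw [mul_assoc _ y y, hyy, mul_one]
  have hxv : x * v ∈ th e := by
    have hmem : x * v ∈ th y :=
      (h.cl_inf_centralizer hB h8 hBS (hVB hyV) (ne_one_of_invol hy)).le ⟨mul_mem hxW hvW, hfix⟩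
    refine th_bal h.constr hy (orderOf_eq_prime (hV'e.2 e ⟨f, hfV, hfe⟩) he1)
      (commute_of_elab hV'e hyV' ⟨f, hfV, hfe⟩) ⟨hmem, ?_⟩
    exact mul_mem hxe (mem_centralizer_singleton_iff.2
      (mem_centralizer_singleton_iff.1 ((th_props e).1 hvth)))
  simpa using mul_mem hxv (inv_mem hvth)

end CfsgLib.CoreKillConn
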